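/-!
Five images of elements of the centraliser of `rep2B` moving point 0 to each point.
-/

set_option autoImplicit false

namespace Cfsg.Agent.H12

/-- Entry `j`: five images of an element sending point 0 to `j`. -/
def cent2BMoves : List Nat :=
  [4294688, 4294657, 4227170, 4227139, 2130084, 2130053, 2130534, 2130375, 2130632, 2130441, 2130474, 2130411, 2130668, 4295309, 2130158, 2130287, 2130224, 2130257, 4227762, 2130131, 4295092, 4227669, 2130198, 2130327]

end Cfsg.Agent.H12
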