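import Cfsg.Agent.H12.ClassReps
import Cfsg.Agent.H12.CentData

/-!
Centralisers in `M24` of the class representatives of orders 2 and 3, as explicit lists.
-/

set_option autoImplicit false

namespace Cfsg.Agent.H12

open scoped Pointwise

theorem code_pmul {P Q : ℕ} (hP : isPerm P = true) (hQ : isPerm Q = true) :
    code (permOf (pmul P Q)) = pmul P Q := by
  refine congrArg pack (List.map_congr_left fun i hi => ?_)
  rw [List.mem_range] at hi
  rw [permOf_pt (pmul_spec hP hQ).1 hi, idx_pt (app_lt (pmul_spec hP hQ).1 hi), app_pmul hi]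

theorem scanList_canon {n : ℕ} {valid : ℕ → Bool} {tup : ℕ → ℕ → ℕ} {test : (ℕ → ℕ) → Bool}
    {c : ℕ} (hc : c ∈ scanList n valid tup test) : code (permOf c) = c := by
  simp only [scanList, List.mem_flatMap, List.mem_range] at hc
  obtain ⟨k, -, hc⟩ := hc
  cases hv : valid k
  · rw [hv, cond_false] at hc; simp at hc
  · rw [hv, cond_true, forceNat_eq, List.mem_map] at hc
    obtain ⟨x, hx, rfl⟩ := hc
    exact code_pmul (mapFive_spec ..).1 (fix5_spec (List.mem_filter.mp hx).1).1

/-- Test for commuting with a packed permutation. -/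
noncomputable def commTest (r : ℕ) (f : ℕ → ℕ) : Bool :=
  allList pts24 fun i => Nat.beq (f (app r i)) (app r (f i))

theorem commTest_of_commute {r : ℕ} {g : Equiv.Perm GolayPt} (hr : isPerm r = true)
    (hc : g * permOf r = permOf r * g) {f : ℕ → ℕ} (hf : ∀ i < 24, f i = idx (g (pt i))) :
    commTest r f = true := by
  refine allList_of_forall fun i hi => ?_
  rw [mem_pts24] at hi
  rw [Nat.beq_eq, hf i hi, hf _ (app_lt hr hi), ← permOf_pt hr hi]
  have := DFunLike.congr_fun hc (pt i)
  rw [Equiv.Perm.mul_apply, Equiv.Perm.mul_apply] at this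
  rw [this, permOf_apply hr, idx_pt (app_lt hr (idx_lt _))]

theorem commute_of_commTest {r c : ℕ} (hr : isPerm r = true) (hc : isPerm c = true) {f : ℕ → ℕ}
    (hf : ∀ i < 24, f i = app c i) (h : commTest r f = true) :
    permOf c * permOf r = permOf r * permOf c := by
  refine Equiv.ext (forall_pt.mpr fun i hi => ?_)
  have h' := allList_spec h i (mem_pts24.mpr hi)
  rw [Nat.beq_eq, hf i hi, hf _ (app_lt hr hi)] at h'
  rw [Equiv.Perm.mul_apply, Equiv.Perm.mul_apply, permOf_pt hr hi, permOf_pt hc (app_lt hr hi),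
    permOf_pt hc hi, permOf_pt hr (app_lt hc hi), h']

/-! ### The fixed-point-free involution -/

/-- Images of 0..4 of a candidate commuting with `rep2B` and fixing 0. -/
noncomputable def tup2B (k : ℕ) : ℕ → ℕ :=
  forceNat (Nat.div k 24) fun a => forceNat (Nat.mod k 24) fun e =>
    chunkGet [0, 1, a, app rep2B a, e]

/-- Admissible candidates. -/
noncomputable def valid2B (k : ℕ) : Bool :=
  forceNat (Nat.div k 24) fun a => forceNat (Nat.mod k 24) fun e =>
    !(memList a [0, 1] || memList e [0, 1, a, app rep2B a])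

theorem tup2B_ok : scanOK 10 576 valid2B tup2B = true := by decide +kernel

/-- The centraliser of `rep2B` at the point 0. -/
noncomputable def cent2B0 : List ℕ := scanList 576 valid2B tup2B (commTest rep2B)

theorem cent2B0_length : cent2B0.length = 320 := by decide +kernel

theorem cent2B0_nodup : (cent2B0.map permOf).Nodup := by
  refine (scanList_nodup tup2B_ok (key := fun f => 24 * f 2 + f 4) ?_).map_on ?_
  · intro k hk _ f hf
    rw [hf 2 (by norm_num), hf 4 (by norm_num)]
    simp only [tup2B, forceNat_eq]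
    show 24 * (k / 24) + k % 24 = k
    omega
  · intro a ha b hb hab
    rw [← scanList_canon ha, ← scanList_canon hb, hab]

theorem rep2B_zero : app rep2B 0 = 1 ∧ app rep2B 1 = 0 := by decide +kernel

theorem mem_cent2B0_iff {g : Equiv.Perm GolayPt} :
    g ∈ cent2B0.map permOf ↔
      g ∈ M24 ∧ g * permOf rep2B = permOf rep2B * g ∧ g (pt 0) = pt 0 := by
  obtain ⟨hr, -⟩ := rep_ok rep2B (by simp)
  rw [List.mem_map]
  constructor
  · rintro ⟨c, hc, rfl⟩
    obtain ⟨⟨hcp, hcm⟩, k, -, -, himg, f, hf, ht⟩ := scanList_sound tup2B_ok hc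
    refine ⟨hcm, commute_of_commTest hr hcp hf ht, ?_⟩
    rw [permOf_fixed_iff hcp (by norm_num), himg 0 (by norm_num)]
    simp only [tup2B, forceNat_eq]
    rfl
  · rintro ⟨hg, hc, h0⟩
    have hcomm : ∀ i < 24, idx (g (pt (app rep2B i))) = app rep2B (idx (g (pt i))) := by
      intro i hi
      rw [← permOf_pt hr hi]
      have := DFunLike.congr_fun hc (pt i)
      rw [Equiv.Perm.mul_apply, Equiv.Perm.mul_apply] at this
      rw [this, permOf_apply hr, idx_pt (app_lt hr (idx_lt _))]
    have h1 : idx (g (pt 1)) = 1 := by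
      have := hcomm 0 (by norm_num)
      rwa [rep2B_zero.1, h0, idx_pt (by norm_num), rep2B_zero.1] at this
    have h23 : app rep2B 2 = 3 := by decide +kernel
    have h3 : idx (g (pt 3)) = app rep2B (idx (g (pt 2))) := by
      have := hcomm 2 (by norm_num)
      rwa [h23] at this
    refine ⟨code g, scanList_complete tup2B_ok hg (k := 24 * idx (g (pt 2)) + idx (g (pt 4))) ?_ ?_ ?_
      (fun f hf => commTest_of_commute hr hc hf), permOf_code g⟩
    · have := idx_lt (g (pt 2)); have := idx_lt (g (pt 4)); omega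
    · have hne : ∀ i j, i < 24 → j < 24 → i ≠ j → idx (g (pt i)) ≠ idx (g (pt j)) :=
        fun i j hi hj hij e => hij (pt_inj hi hj (g.injective (idx_injective e)))
      have e0 : idx (g (pt 0)) = 0 := by rw [h0, idx_pt (by norm_num)]
      have n20 := hne 2 0 (by norm_num) (by norm_num) (by norm_num)
      have n21 := hne 2 1 (by norm_num) (by norm_num) (by norm_num)
      have n40 := hne 4 0 (by norm_num) (by norm_num) (by norm_num)
      have n41 := hne 4 1 (by norm_num) (by norm_num) (by norm_num)
      have n42 := hne 4 2 (by norm_num) (by norm_num) (by norm_num)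
      have n43 := hne 4 3 (by norm_num) (by norm_num) (by norm_num)
      have hm := idx_lt (g (pt 4))
      simp only [valid2B, forceNat_eq]
      rw [show Nat.div (24 * idx (g (pt 2)) + idx (g (pt 4))) 24 = idx (g (pt 2)) from
          (show (24 * idx (g (pt 2)) + idx (g (pt 4))) / 24 = _ by omega),
        show Nat.mod (24 * idx (g (pt 2)) + idx (g (pt 4))) 24 = idx (g (pt 4)) from
          (show (24 * idx (g (pt 2)) + idx (g (pt 4))) % 24 = _ by omega)]
      rw [Bool.not_eq_true', Bool.or_eq_false_iff]
      constructor <;> rw [← Bool.not_eq_true] <;> intro hmem <;>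
        have := memList_spec hmem <;>
        simp only [List.mem_cons, List.not_mem_nil, or_false] at this <;> omega
    · intro i hi
      have hm := idx_lt (g (pt 4))
      simp only [tup2B, forceNat_eq]
      rw [show Nat.div (24 * idx (g (pt 2)) + idx (g (pt 4))) 24 = idx (g (pt 2)) from
          (show (24 * idx (g (pt 2)) + idx (g (pt 4))) / 24 = _ by omega),
        show Nat.mod (24 * idx (g (pt 2)) + idx (g (pt 4))) 24 = idx (g (pt 4)) from
          (show (24 * idx (g (pt 2)) + idx (g (pt 4))) % 24 = _ by omega)]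
      rcases i with - | - | - | - | - | i
      · rw [h0, idx_pt (by norm_num)]; rfl
      · rw [h1]; rfl
      · rfl
      · rw [h3]; rfl
      · rfl
      · omega

theorem cent2BMoves_check : (allBelow 5 24 fun j => forceNat (chunkGet cent2BMoves j) fun t =>
    forceNat (mapFive (app t 0) (app t 1) (app t 2) (app t 3) (app t 4)) fun P =>
      fix5.any fun h => Nat.beq (compFun P h 0) j && commTest rep2B (compFun P h)) = true := by
  decide +kernel

theorem exists_cent2B_move (p : GolayPt) :
    ∃ c ∈ M24, c * permOf rep2B = permOf rep2B * c ∧ c (pt 0) = p := by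
  obtain ⟨hr, -⟩ := rep_ok rep2B (by simp)
  have h := allBelow_spec cent2BMoves_check (idx_lt p)
  simp only [forceNat_eq, List.any_eq_true, Bool.and_eq_true, Nat.beq_eq] at h
  obtain ⟨x, hx, hj, ht⟩ := h
  obtain ⟨hxp, hxm, -, -⟩ := fix5_spec hx
  generalize hP : mapFive _ _ _ _ _ = P at hj ht
  have hPs : isPerm P = true ∧ permOf P ∈ M24 := hP ▸ mapFive_spec ..
  obtain ⟨hc, hcm⟩ := pmul_mem hPs ⟨hxp, hxm⟩
  refine ⟨_, hcm, commute_of_commTest hr hc (fun i hi => compFun_eq hi) ht, ?_⟩
  rw [permOf_pt hc (by norm_num), ← compFun_eq (by norm_num), hj, pt_idx]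

theorem card_cent2B :
    Nat.card {c : Equiv.Perm GolayPt // c ∈ M24 ∧ c * permOf rep2B = permOf rep2B * c} = 7680 := by
  classical
  let C : Subgroup (Equiv.Perm GolayPt) := M24 ⊓ Subgroup.centralizer {permOf rep2B}
  have hC : ∀ c, c ∈ C ↔ c ∈ M24 ∧ c * permOf rep2B = permOf rep2B * c := by
    intro c
    simp only [C, Subgroup.mem_inf, Subgroup.mem_centralizer_singleton_iff]
  have h1 : Nat.card {c : Equiv.Perm GolayPt // c ∈ M24 ∧ c * permOf rep2B = permOf rep2B * c} =
      Nat.card C := Nat.card_congr (Equiv.subtypeEquivRight fun c => (hC c).symm)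
  rw [h1, ← Subgroup.index_mul_card (MulAction.stabilizer C (pt 0)), MulAction.index_stabilizer]
  have horb : MulAction.orbit C (pt 0) = Set.univ := by
    refine Set.eq_univ_of_forall fun p => ?_
    obtain ⟨c, hc, hcc, hcp⟩ := exists_cent2B_move p
    exact ⟨⟨c, (hC c).mpr ⟨hc, hcc⟩⟩, hcp⟩
  have hstab : Nat.card (MulAction.stabilizer C (pt 0)) = 320 := by
    have e : Nat.card (MulAction.stabilizer C (pt 0)) =
        Set.ncard {g : Equiv.Perm GolayPt |
          g ∈ M24 ∧ g * permOf rep2B = permOf rep2B * g ∧ g (pt 0) = pt 0} := by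
      rw [← Nat.card_coe_set_eq]
      refine Nat.card_congr
        ⟨fun x => ⟨x.1.1, ((hC _).mp x.1.2).1, ((hC _).mp x.1.2).2, x.2⟩,
          fun x => ⟨⟨x.1, (hC _).mpr ⟨x.2.1, x.2.2.1⟩⟩, x.2.2.2⟩, fun x => rfl, fun x => rfl⟩
    rw [e, show {g : Equiv.Perm GolayPt | g ∈ M24 ∧ g * permOf rep2B = permOf rep2B * g ∧
      g (pt 0) = pt 0} = ↑(cent2B0.map permOf).toFinset by
        ext g; simp only [Set.mem_ofPred_eq, List.coe_toFinset, ← mem_cent2B0_iff],
      Set.ncard_coe_finset, List.toFinset_card_of_nodup cent2B0_nodup, List.length_map,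
      cent2B0_length]
  rw [horb, hstab, Set.ncard_univ, Nat.card_eq_fintype_card, Fintype.card_option, ZMod.card]

/-- All six tetrads of the sextet are preserved by the table's permutation. -/
noncomputable def tetradsFixed (T : List ℕ) (i : ℕ) : Bool :=
  allList (sextList i) fun m => Nat.beq (imgFast T m) m

theorem fixed_sextet_check : (allBelow 11 1771 fun i =>
    Nat.beq (cond (tetradsFixed rep2BTbl i) 1 0) (cond (Nat.beq i 1035) 1 0)) = true := by
  decide +kernel

theorem fixed_sextet_iff {i : ℕ} (hi : i < 1771) :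
    (∀ u ∈ sextSet i, permOf rep2B • u = u) ↔ i = 1035 := by
  have hT : genOK (rep2B, rep2BTbl) = true := by
    have h := repTbl_ok
    simp only [Bool.and_eq_true] at h
    exact h.1.1.2
  have h := allBelow_spec fixed_sextet_check hi
  rw [Nat.beq_eq] at h
  have key : (∀ u ∈ sextSet i, permOf rep2B • u = u) ↔ tetradsFixed rep2BTbl i = true := by
    constructor
    · intro hall
      refine allList_of_forall fun m hm => Nat.beq_eq.to_iff.mpr ?_
      have := hall _ (mem_fins.mpr ⟨m, hm, rfl⟩)
      rw [smul_fin_fast hT (sextList_lt hm)] at this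
      refine fin_inj ?_ (sextList_lt hm) this
      rw [imgFast_eq (genOK_spec hT).2.1 (sextList_lt hm)]
      exact imgMask_lt (genOK_spec hT).1 _
    · intro hall u hu
      obtain ⟨m, hm, rfl⟩ := mem_fins.mp hu
      have := Nat.beq_eq.to_iff.mp (allList_spec hall m hm)
      rw [smul_fin_fast hT (sextList_lt hm), this]
  rw [key]
  constructor
  · intro ht
    rw [ht] at h
    cases hq : Nat.beq i 1035
    · rw [hq] at h; simp at h
    · exact Nat.beq_eq.to_iff.mp hq
  · intro he
    rw [Nat.beq_eq.to_iff.mpr he] at h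
    cases hq : tetradsFixed rep2BTbl i
    · rw [hq] at h; simp at h
    · rfl

theorem cent2B_fixes_sextet {c : Equiv.Perm GolayPt} (hc : c ∈ M24)
    (hcc : c * permOf rep2B = permOf rep2B * c) : c • sextSet 1035 = sextSet 1035 := by
  have hS := smul_mem_sextets hc (sextSet_mem (k := 1035) (by norm_num))
  obtain ⟨i, hi, he⟩ := sextets_eq ▸ hS
  have hall : ∀ u ∈ sextSet i, permOf rep2B • u = u := by
    intro u hu
    rw [he] at hu
    obtain ⟨v, hv, rfl⟩ := Finset.mem_smul_finset.mp hu
    rw [← mul_smul, ← hcc, mul_smul, (fixed_sextet_iff (by norm_num)).mpr rfl v hv]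
  rw [← he, (fixed_sextet_iff hi).mp hall]

theorem rep2B_fixes_sextet : permOf rep2B • sextSet 1035 = sextSet 1035 :=
  cent2B_fixes_sextet (rep_ok _ (by simp)).2 rfl

/-! ### Elements commuting with an element of order 3 -/

/-- Images of 0..4 of a candidate commuting with `x`, an element sending 0 to 1 to 2 and 3 to 4. -/
noncomputable def tupC (x k : ℕ) : ℕ → ℕ :=
  forceNat (Nat.div k 24) fun a => forceNat (Nat.mod k 24) fun b =>
    chunkGet [a, app x a, app x (app x a), b, app x b]

/-- Admissible candidates. -/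
noncomputable def validC (x k : ℕ) : Bool :=
  forceNat (Nat.div k 24) fun a => forceNat (Nat.mod k 24) fun b =>
    !(Nat.beq (app x a) a || Nat.beq (app x b) b || memList b [a, app x a, app x (app x a)])

theorem tupC_ok : (scanOK 10 576 (validC rep3A) (tupC rep3A) &&
    scanOK 10 576 (validC rep3B) (tupC rep3B)) = true := by
  decide +kernel

/-- Candidate involutions commuting with `x`. -/
noncomputable def centSq (x : ℕ) : List ℕ :=
  scanList 576 (validC x) (tupC x) fun f => commTest x f && testSq f

/-- Number of fixed points of a packed permutation. -/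
noncomputable def fixCount (c : ℕ) : ℕ := (pts24.filter fun i => Nat.beq (app c i) i).length

theorem centSq_check :
    (allList (centSq rep3A) (fun c => forceNat (fixCount c) fun n =>
      Nat.beq n 8 || Nat.beq n 24) &&
    allList (centSq rep3B) (fun c => forceNat (fixCount c) fun n =>
      Nat.beq n 0 || Nat.beq n 24)) = true := by
  decide +kernel

theorem fixPts_card_code (g : Equiv.Perm GolayPt) : (fixPts g).card = fixCount (code g) := by
  classical
  have hnd : pts24.Nodup := by decide
  rw [fixCount, ← List.toFinset_card_of_nodup (hnd.filter _)]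
  refine Finset.card_bij (fun p _ => idx p) (fun p hp => ?_) (fun a _ b _ h => idx_injective h) ?_
  · simp only [fixPts, Finset.mem_filter, Finset.mem_univ, true_and] at hp
    rw [List.mem_toFinset, List.mem_filter, Nat.beq_eq, app_code g (idx_lt p), pt_idx, hp]
    exact ⟨mem_pts24.mpr (idx_lt p), rfl⟩
  · intro i hi
    rw [List.mem_toFinset, List.mem_filter, Nat.beq_eq, mem_pts24] at hi
    refine ⟨pt i, ?_, idx_pt hi.1⟩
    simp only [fixPts, Finset.mem_filter, Finset.mem_univ, true_and]
    rw [app_code g hi.1] at hi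
    exact idx_injective (by rw [hi.2, idx_pt hi.1])

theorem commuting_involution_fix {x n : ℕ} (hx : isPerm x = true)
    (hok : scanOK 10 576 (validC x) (tupC x) = true)
    (hchk : allList (centSq x) (fun c => forceNat (fixCount c) fun m =>
      Nat.beq m n || Nat.beq m 24) = true)
    (hcyc : app x 0 = 1 ∧ app x 1 = 2 ∧ app x 2 = 0 ∧ app x 3 = 4)
    {s : Equiv.Perm GolayPt} (hs : s ∈ M24) (h₂ : orderOf s = 2)
    (hc : s * permOf x = permOf x * s) : (fixPts s).card = n := by
  have hcomm : ∀ i < 24, idx (s (pt (app x i))) = app x (idx (s (pt i))) := by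
    intro i hi
    rw [← permOf_pt hx hi]
    have := DFunLike.congr_fun hc (pt i)
    rw [Equiv.Perm.mul_apply, Equiv.Perm.mul_apply] at this
    rw [this, permOf_apply hx, idx_pt (app_lt hx (idx_lt _))]
  have hne : ∀ i j, i < 24 → j < 24 → i ≠ j → idx (s (pt i)) ≠ idx (s (pt j)) :=
    fun i j hi hj hij e => hij (pt_inj hi hj (s.injective (idx_injective e)))
  have e1 := hcomm 0 (by norm_num)
  have e2 := hcomm 1 (by norm_num)
  have e4 := hcomm 3 (by norm_num)
  rw [hcyc.1] at e1
  rw [hcyc.2.1, e1] at e2
  rw [hcyc.2.2.2] at e4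
  set a := idx (s (pt 0)) with ha
  set b := idx (s (pt 3)) with hb
  have hsq : ∀ p, s (s p) = p := by
    intro p
    have := pow_orderOf_eq_one s
    rw [h₂, sq] at this
    exact DFunLike.congr_fun this p
  have hval : validC x (24 * a + b) = true := by
    have n1 := hne 1 0 (by norm_num) (by norm_num) (by norm_num)
    have n4 := hne 4 3 (by norm_num) (by norm_num) (by norm_num)
    have n30 := hne 3 0 (by norm_num) (by norm_num) (by norm_num)
    have n31 := hne 3 1 (by norm_num) (by norm_num) (by norm_num)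
    have n32 := hne 3 2 (by norm_num) (by norm_num) (by norm_num)
    rw [e1] at n1 n31
    rw [e4] at n4
    rw [e2] at n32
    have hbl : b < 24 := idx_lt _
    simp only [validC, forceNat_eq]
    rw [show Nat.div (24 * a + b) 24 = a from (show (24 * a + b) / 24 = a by omega),
      show Nat.mod (24 * a + b) 24 = b from (show (24 * a + b) % 24 = b by omega)]
    rw [Bool.not_eq_true', Bool.or_eq_false_iff, Bool.or_eq_false_iff]
    refine ⟨⟨?_, ?_⟩, ?_⟩ <;> rw [← Bool.not_eq_true] <;> intro hh
    · exact n1 (Nat.beq_eq.to_iff.mp hh)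
    · exact n4 (Nat.beq_eq.to_iff.mp hh)
    · have := memList_spec hh
      simp only [List.mem_cons, List.not_mem_nil, or_false] at this
      omega
  have hmem : code s ∈ centSq x := by
    refine scanList_complete hok hs (k := 24 * a + b) ?_ hval ?_ ?_
    · have : a < 24 := idx_lt _; have : b < 24 := idx_lt _; omega
    · intro i hi
      have hbl : b < 24 := idx_lt _
      simp only [tupC, forceNat_eq]
      rw [show Nat.div (24 * a + b) 24 = a from (show (24 * a + b) / 24 = a by omega),
        show Nat.mod (24 * a + b) 24 = b from (show (24 * a + b) % 24 = b by omega)]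
      rcases i with - | - | - | - | - | i
      · rfl
      · rw [e1]; rfl
      · rw [e2]; rfl
      · rfl
      · rw [e4]; rfl
      · omega
    · intro f hf
      rw [Bool.and_eq_true]
      refine ⟨commTest_of_commute hx hc hf, allList_of_forall fun i hi => ?_⟩
      rw [mem_pts24] at hi
      rw [Nat.beq_eq, hf i hi, hf _ (idx_lt _), pt_idx, hsq, idx_pt hi]
  have h := allList_spec hchk _ hmem
  rw [forceNat_eq, ← fixPts_card_code, Bool.or_eq_true, Nat.beq_eq, Nat.beq_eq] at h
  refine h.resolve_right fun h24 => ?_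
  have huniv : fixPts s = Finset.univ := Finset.eq_univ_of_card _ (by
    rw [h24, Fintype.card_option, ZMod.card])
  have h1 : s = 1 := Equiv.ext fun p => by
    have := Finset.mem_univ p
    rw [← huniv, fixPts, Finset.mem_filter] at this
    exact this.2
  rw [h1, orderOf_one] at h₂
  omega

theorem rep3_cycles : (app rep3A 0 = 1 ∧ app rep3A 1 = 2 ∧ app rep3A 2 = 0 ∧ app rep3A 3 = 4) ∧
    (app rep3B 0 = 1 ∧ app rep3B 1 = 2 ∧ app rep3B 2 = 0 ∧ app rep3B 3 = 4) := by
  decide +kernel

/-- Commuting elements of orders 3 and 2. -/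
theorem commuting_three_two {x s : Equiv.Perm GolayPt} (hx : x ∈ M24) (hs : s ∈ M24)
    (h₃ : orderOf x = 3) (h₂ : orderOf s = 2) (hc : Commute x s) :
    ((fixPts x).card = 6 ∧ (fixPts s).card = 8) ∨ ((fixPts x).card = 0 ∧ (fixPts s).card = 0) := by
  have hok := Bool.and_eq_true_iff.mp tupC_ok
  have hck := Bool.and_eq_true_iff.mp centSq_check
  have key : ∀ {r n : ℕ}, isPerm r = true → scanOK 10 576 (validC r) (tupC r) = true →
      allList (centSq r) (fun c => forceNat (fixCount c) fun m =>
        Nat.beq m n || Nat.beq m 24) = true →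
      (app r 0 = 1 ∧ app r 1 = 2 ∧ app r 2 = 0 ∧ app r 3 = 4) →
      ∀ k ∈ M24, x = k * permOf r * k⁻¹ → (fixPts s).card = n := by
    intro r n hr ho hk' hcy k hk he
    have hconj : s = k * (k⁻¹ * s * k) * k⁻¹ := by group
    have hord : orderOf (k⁻¹ * s * k) = 2 := by
      have h := orderOf_injective (MulAut.conj k⁻¹).toMonoidHom (MulAut.conj k⁻¹).injective s
      simpa [h₂] using h
    have hcomm : (k⁻¹ * s * k) * permOf r = permOf r * (k⁻¹ * s * k) := by
      have hr' : permOf r = k⁻¹ * x * k := by rw [he]; group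
      rw [hr']
      calc k⁻¹ * s * k * (k⁻¹ * x * k) = k⁻¹ * (s * x) * k := by group
        _ = k⁻¹ * (x * s) * k := by rw [hc.eq]
        _ = k⁻¹ * x * k * (k⁻¹ * s * k) := by group
    rw [hconj, fixPts_conj, Finset.card_smul_finset]
    exact commuting_involution_fix hr ho hk' hcy
      (M24.mul_mem (M24.mul_mem (M24.inv_mem hk) hs) hk) hord hcomm
  rcases order_three_cases hx h₃ with ⟨h6, k, hk, he⟩ | ⟨h0, k, hk, he⟩
  · exact Or.inl ⟨h6, key (rep_ok _ (by simp)).1 hok.1 hck.1 rep3_cycles.1 k hk he⟩
  · exact Or.inr ⟨h0, key (rep_ok _ (by simp)).1 hok.2 hck.2 rep3_cycles.2 k hk he⟩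

end Cfsg.Agent.H12
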