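/-!
Image tables of the class representatives.
-/

set_option autoImplicit false

namespace Cfsg.Agent.H12

/-- Image tables. -/
def rep2ATbl : List Nat :=
  [0xf00000d00000e00000c00000700000500000600000400000b00000900000a000008000003000001000002000000, 0x2b00002a00002900002800000b00000a0000090000080000230000220000210000200000030000020000010000000, 0x408440400440408400400400408040400040408000400000008440000440008400000400008040000040008000000000, 0x105100104100005100004100101100100100001100000100105000104000005000004000101000100000001000000000, 0x2b00002300002900002100000b00000300000900000100002a00002200002800002000000a0000020000080000000000, 0x842800840800802800800800842000840000802000800000042800040800002800000800042000040000002000000000]

/-- Image tables. -/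
def rep2BTbl : List Nat :=
  [0xf00000d00000e00000c00000700000500000600000400000b00000900000a000008000003000001000002000000, 0x84030084010084020084000004030004010004020004000080030080010080020080000000030000010000020000000, 0x438000038000428000028000418000018000408000008000430000030000420000020000410000010000400000000000, 0x900880100880800880000880900800100800800800000800900080100080800080000080900000100000800000000000, 0x200640200440200240200040000640000440000240000040200600200400200200200000000600000400000200000000, 0x43100041100003100001100043000041000003000001000042100040100002100000100042000040000002000000000]

/-- Image tables. -/
def rep3ATbl : List Nat :=
  [0x17000015000013000011000016000014000012000010000007000005000003000001000006000004000002000000, 0x210088210008010088010008200088200008000088000008210080210000010080010000200080200000000080000000, 0x802420802400002420002400802020802000002020002000800420800400000420000400800020800000000020000000, 0x5a00004a00001a00000a00005200004200001200000200005800004800001800000800005000004000001000000000, 0xe00400a00400c00400800400e00000a00000c0000080000060040020040040040000040060000020000040000000000, 0x508100408100508000408000108100008100108000008000500100400100500000400000100100000100100000000000]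

/-- Image tables. -/
def rep3BTbl : List Nat :=
  [0x17000015000013000011000016000014000012000010000007000005000003000001000006000004000002000000, 0x2228002208002220002200000228000208000220000200002028002008002020002000000028000008000020000000, 0xc88000c80000488000480000c08000c00000408000400000888000880000088000080000808000800000008000000000, 0x341000301000241000201000340000300000240000200000141000101000041000001000140000100000040000000000, 0x24c00024400024800024000020c00020400020800020000004c00004400004800004000000c00000400000800000000, 0x101c00101800100c00100800001c00001800000c0000080010140010100010040010000000140000100000040000000]

end Cfsg.Agent.H12
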