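import Cfsg.Agent.H12.Classes
import Cfsg.Agent.H12.RepTables

/-!
Fixed points of the class representatives and the numbers of octads, trios, sextets and
dodecads they fix.
-/

set_option autoImplicit false

namespace Cfsg.Agent.H12

open scoped Pointwise

/-- The fixed-point set of a permutation. -/
def fixPts (g : Equiv.Perm GolayPt) : Finset GolayPt := Finset.univ.filter fun p => g p = p

theorem fixPts_conj (k g : Equiv.Perm GolayPt) : fixPts (k * g * k⁻¹) = k • fixPts g := by
  ext p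
  rw [← Finset.inv_smul_mem_iff, fixPts, fixPts, Finset.mem_filter, Finset.mem_filter]
  simp only [Finset.mem_univ, true_and, Equiv.Perm.mul_apply, Equiv.Perm.smul_def]
  exact Equiv.Perm.eq_inv_iff_eq.symm

/-- Kernel check of the fixed points. -/
noncomputable def fixCheck (P F : ℕ) : Bool :=
  allList pts24 fun i => Nat.beq (cond (Nat.beq (app P i) i) 1 0) (Nat.land (Nat.shiftRight F i) 1)

theorem fixPts_of_check {P F : ℕ} (hP : isPerm P = true) (h : fixCheck P F = true) :
    fixPts (permOf P) = fin F := by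
  ext p
  have hi := idx_lt p
  have h1 := allList_spec h _ (mem_pts24.mpr hi)
  rw [Nat.beq_eq] at h1
  simp only [fixPts, Finset.mem_filter, Finset.mem_univ, true_and, mem_fin]
  rw [Nat.testBit_eq_decide_div_mod_eq, decide_eq_true_eq, ← Nat.shiftRight_eq_div_pow,
    ← Nat.and_one_is_mod]
  rw [← pt_idx p, permOf_fixed_iff hP hi, pt_idx]
  have h2 : (cond (Nat.beq (app P (idx p)) (idx p)) 1 0 : ℕ) = F >>> idx p &&& 1 := h1
  rw [← h2]
  cases hb : Nat.beq (app P (idx p)) (idx p)
  · rw [← Bool.not_eq_true, Nat.beq_eq] at hb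
    simp [hb]
  · rw [Nat.beq_eq] at hb
    simp [hb]

theorem rep_fix_check : (fixCheck rep2A 8541360 && fixCheck rep2B 0 && fixCheck rep3A 5903360 &&
    fixCheck rep3B 0) = true := by
  decide +kernel

theorem rep_fixPts : fixPts (permOf rep2A) = fin 8541360 ∧ fixPts (permOf rep2B) = ∅ ∧
    fixPts (permOf rep3A) = fin 5903360 ∧ fixPts (permOf rep3B) = ∅ := by
  have h := rep_fix_check
  simp only [Bool.and_eq_true] at h
  refine ⟨fixPts_of_check (rep_ok _ (by simp)).1 h.1.1.1, ?_,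
    fixPts_of_check (rep_ok _ (by simp)).1 h.1.2, ?_⟩
  · rw [fixPts_of_check (rep_ok _ (by simp)).1 h.1.1.2, fin_zero]
  · rw [fixPts_of_check (rep_ok _ (by simp)).1 h.2, fin_zero]

theorem rep_fix_card : (fixPts (permOf rep2A)).card = 8 ∧ (fixPts (permOf rep2B)).card = 0 ∧
    (fixPts (permOf rep3A)).card = 6 ∧ (fixPts (permOf rep3B)).card = 0 := by
  obtain ⟨h1, h2, h3, h4⟩ := rep_fixPts
  rw [h1, h2, h3, h4, card_fin, card_fin, Finset.card_empty]
  decide +kernel

theorem orderOf_of_fix {P n : ℕ} (hn : n.Prime) (hP : isPerm P = true)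
    (hcheck : (allList pts24 fun i => Nat.beq ((app P)^[n] i) i) = true)
    (hne : fixPts (permOf P) ≠ Finset.univ) : orderOf (permOf P) = n := by
  haveI := Fact.mk hn
  refine orderOf_eq_prime ?_ ?_
  · refine Equiv.ext (forall_pt.mpr fun i hi => ?_)
    have hiter : ∀ j, ((permOf P ^ j) (pt i)) = pt ((app P)^[j] i) ∧ (app P)^[j] i < 24 := by
      intro j
      induction j with
      | zero => exact ⟨rfl, hi⟩
      | succ j ih =>
        rw [pow_succ', Equiv.Perm.mul_apply, ih.1, Function.iterate_succ_apply', permOf_pt hP ih.2]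
        exact ⟨rfl, app_lt hP ih.2⟩
    have := allList_spec hcheck i (mem_pts24.mpr hi)
    rw [Nat.beq_eq] at this
    rw [(hiter n).1, this, Equiv.Perm.one_apply]
  · intro h
    exact hne (by rw [h]; simp [fixPts])

theorem rep_order : orderOf (permOf rep2A) = 2 ∧ orderOf (permOf rep2B) = 2 ∧
    orderOf (permOf rep3A) = 3 ∧ orderOf (permOf rep3B) = 3 := by
  have hne : ∀ {s : Finset GolayPt}, s.card < 9 → s ≠ Finset.univ := by
    intro s h e
    rw [e, Finset.card_univ, Fintype.card_option, ZMod.card] at h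
    omega
  obtain ⟨c1, c2, c3, c4⟩ := rep_fix_card
  exact ⟨orderOf_of_fix Nat.prime_two (rep_ok _ (by simp)).1 (by decide +kernel)
      (hne (by omega)),
    orderOf_of_fix Nat.prime_two (rep_ok _ (by simp)).1 (by decide +kernel) (hne (by omega)),
    orderOf_of_fix Nat.prime_three (rep_ok _ (by simp)).1 (by decide +kernel) (hne (by omega)),
    orderOf_of_fix Nat.prime_three (rep_ok _ (by simp)).1 (by decide +kernel) (hne (by omega))⟩

theorem involution_cases {g : Equiv.Perm GolayPt} (hg : g ∈ M24) (h2 : orderOf g = 2) :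
    (fixPts g ∈ octads ∧ ∃ k ∈ M24, g = k * permOf rep2A * k⁻¹) ∨
      (fixPts g = ∅ ∧ ∃ k ∈ M24, g = k * permOf rep2B * k⁻¹) := by
  obtain ⟨k, hk, rfl | rfl⟩ := involution_class hg h2
  · refine Or.inl ⟨?_, k, hk, rfl⟩
    rw [fixPts_conj, rep_fixPts.1, smul_mem_octads hk, fin_mem_octads (by norm_num)]
    decide +kernel
  · refine Or.inr ⟨?_, k, hk, rfl⟩
    rw [fixPts_conj, rep_fixPts.2.1, Finset.smul_finset_empty]

theorem order_three_cases {g : Equiv.Perm GolayPt} (hg : g ∈ M24) (h3 : orderOf g = 3) :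
    ((fixPts g).card = 6 ∧ ∃ k ∈ M24, g = k * permOf rep3A * k⁻¹) ∨
      ((fixPts g).card = 0 ∧ ∃ k ∈ M24, g = k * permOf rep3B * k⁻¹) := by
  obtain ⟨k, hk, rfl | rfl⟩ := order_three_class hg h3
  · exact Or.inl ⟨by rw [fixPts_conj, Finset.card_smul_finset, rep_fix_card.2.2.1], k, hk, rfl⟩
  · exact Or.inr ⟨by rw [fixPts_conj, Finset.card_smul_finset, rep_fix_card.2.2.2], k, hk, rfl⟩

/-! ### Numbers of fixed objects -/

theorem fixed_ncard_conj {β : Type*} [MulAction (Equiv.Perm GolayPt) β] {S : Set β}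
    (hS : ∀ g ∈ M24, ∀ x ∈ S, g • x ∈ S) {k : Equiv.Perm GolayPt} (hk : k ∈ M24)
    (g : Equiv.Perm GolayPt) :
    {x | x ∈ S ∧ (k * g * k⁻¹) • x = x}.ncard = {x | x ∈ S ∧ g • x = x}.ncard := by
  have : {x | x ∈ S ∧ (k * g * k⁻¹) • x = x} = k • {x | x ∈ S ∧ g • x = x} := by
    ext x
    rw [Set.mem_smul_set_iff_inv_smul_mem]
    simp only [Set.mem_ofPred_eq, mul_smul]
    constructor
    · rintro ⟨hx, he⟩
      refine ⟨hS _ (M24.inv_mem hk) _ hx, ?_⟩
      conv_rhs => rw [← he]
      simp [mul_smul]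
    · rintro ⟨hx, he⟩
      exact ⟨by simpa using hS _ hk _ hx, by rw [he, smul_inv_smul]⟩
  rw [this, Set.ncard_smul_set]

theorem fixed_ncard_of_check {β : Type*} [MulAction (Equiv.Perm GolayPt) β] {S : Set β}
    {dec : ℕ → β} {n : ℕ} (hSeq : S = dec '' Set.Iio n) (hn : n ≤ 4096)
    (hinj : Set.InjOn dec (Set.Iio n)) {g : Equiv.Perm GolayPt} {f : ℕ → Bool}
    (hf : ∀ i < n, g • dec i = dec i ↔ f i = true) {c : ℕ}
    (hc : Nat.beq (countBelow n f) c = true) : {x | x ∈ S ∧ g • x = x}.ncard = c := by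
  have : {x | x ∈ S ∧ g • x = x} = dec '' {i | i < n ∧ f i = true} := by
    ext x
    simp only [Set.mem_ofPred_eq, hSeq, Set.mem_image, Set.mem_Iio]
    constructor
    · rintro ⟨⟨i, hi, rfl⟩, he⟩
      exact ⟨i, ⟨hi, (hf i hi).mp he⟩, rfl⟩
    · rintro ⟨i, ⟨hi, he⟩, rfl⟩
      exact ⟨⟨i, hi, rfl⟩, (hf i hi).mpr he⟩
  rw [this, ncard_image_class hn hinj, Nat.beq_eq.to_iff.mp hc]

theorem memList_of_mem {a : ℕ} {l : List ℕ} (h : a ∈ l) : memList a l = true := by
  induction l with
  | nil => simp at h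
  | cons b l ih =>
    show Bool.rec (memList a l) true (Nat.beq a b) = true
    cases hb : Nat.beq a b
    · rw [← Bool.not_eq_true, Nat.beq_eq] at hb
      exact ih ((List.mem_cons.mp h).resolve_left hb)
    · rfl

theorem octImg_iff {x : ℕ × List ℕ} (h : genOK x = true) {i : ℕ} (hi : i < 759) :
    permOf x.1 • octSet i = octSet i ↔ octImg x.2 i i = true := by
  refine ⟨fun he => ?_, fun hc => octImg_spec h hi hc⟩
  rw [octSet, smul_fin_fast h (octMask_lt hi)] at he
  rw [octImg, Nat.beq_eq]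
  refine fin_inj ?_ (octMask_lt hi) he
  rw [imgFast_eq (genOK_spec h).2.1 (octMask_lt hi)]
  exact imgMask_lt (genOK_spec h).1 _

theorem mem_of_fin_mem {x : ℕ × List ℕ} (h : genOK x = true) {m : ℕ} (hm : m < 2 ^ 24)
    {L : List ℕ} (hL : ∀ a ∈ L, a < 2 ^ 24) (hfin : permOf x.1 • fin m ∈ fins L) :
    memList (imgFast x.2 m) L = true := by
  rw [smul_fin_fast h hm, mem_fins] at hfin
  obtain ⟨a, ha, he⟩ := hfin
  have hlt : imgFast x.2 m < 2 ^ 24 := by
    rw [imgFast_eq (genOK_spec h).2.1 hm]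
    exact imgMask_lt (genOK_spec h).1 _
  rw [← fin_inj (hL a ha) hlt he]
  exact memList_of_mem ha

theorem trioList_lt {k m : ℕ} (hk : k < 3795) (hm : m ∈ trioList k) : m < 2 ^ 24 := by
  obtain ⟨ha, hb, hc, -⟩ := trio_props hk
  simp only [trioList, List.mem_cons, List.not_mem_nil, or_false] at hm
  rcases hm with rfl | rfl | rfl
  exacts [isOctad_lt ha, isOctad_lt hb, isOctad_lt hc]

theorem trioImg_iff {x : ℕ × List ℕ} (h : genOK x = true) {i : ℕ} (hi : i < 3795) :
    permOf x.1 • trioSet i = trioSet i ↔ trioImg x.2 i i = true := by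
  refine ⟨fun he => ?_, fun hc => trioImg_spec h hi hi hc⟩
  obtain ⟨ha, hb, -⟩ := trio_props hi
  rw [trioSet_eq] at he
  simp only [trioImg, forceNat_eq, Bool.and_eq_true]
  constructor
  all_goals
    refine mem_of_fin_mem h (by first | exact isOctad_lt ha | exact isOctad_lt hb)
      (fun a ha' => trioList_lt hi ha') ?_
    have hmem : ∀ m ∈ trioList i, permOf x.1 • fin m ∈ fins (trioList i) := by
      intro m hm
      have h' : permOf x.1 • fin m ∈ permOf x.1 • fins (trioList i) :=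
        Finset.smul_mem_smul_finset (mem_fins.mpr ⟨m, hm, rfl⟩)
      rwa [he] at h'
    exact hmem _ (by simp [trioList])

theorem sextImg_iff {x : ℕ × List ℕ} (h : genOK x = true) {i : ℕ} (hi : i < 1771) :
    permOf x.1 • sextSet i = sextSet i ↔ sextImg x.2 i i = true := by
  refine ⟨fun he => ?_, fun hc => sextImg_spec h hi hi hc⟩
  simp only [sextImg, forceNat_eq]
  refine mem_of_fin_mem h (Nat.lt_succ_of_le Nat.and_le_right) (fun a ha => sextList_lt ha) ?_
  change _ ∈ sextSet i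
  have h' : permOf x.1 • fin (sextHead i) ∈ permOf x.1 • sextSet i :=
    Finset.smul_mem_smul_finset (sextHead_mem i)
  rwa [he] at h'

theorem dodImg_iff {x : ℕ × List ℕ} (h : genOK x = true) {i : ℕ} (hi : i < 2576) :
    permOf x.1 • dodSet i = dodSet i ↔ Nat.beq (imgFast x.2 (dodMask i)) (dodMask i) = true := by
  rw [dodSet, smul_fin_fast h (dodMask_lt hi), Nat.beq_eq]
  refine ⟨fun he => fin_inj ?_ (dodMask_lt hi) he, fun he => by rw [he]⟩
  rw [imgFast_eq (genOK_spec h).2.1 (dodMask_lt hi)]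
  exact imgMask_lt (genOK_spec h).1 _

theorem repTbl_ok : (genOK (rep2A, rep2ATbl) && genOK (rep2B, rep2BTbl) &&
    genOK (rep3A, rep3ATbl) && genOK (rep3B, rep3BTbl)) = true := by
  decide +kernel

end Cfsg.Agent.H12
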