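import Cfsg.Agent.H12.Kernel
import Mathlib

/-!
Certified orbits on an indexed family: a spanning tree of generator images, and counts.
-/

set_option autoImplicit false

namespace Cfsg.Agent.H12

open Pointwise

/-- Bitwise union of `f i` for `base ≤ i < base + 2^d`, `i < n`. -/
noncomputable def orSeg (f : ℕ → ℕ) (d : ℕ) : ℕ → ℕ → ℕ :=
  Nat.rec (motive := fun _ => ℕ → ℕ → ℕ)
    (fun base n => Bool.rec 0 (f base) (Nat.blt base n))
    (fun k ih base n => Bool.rec 0
      (Nat.lor (ih base n) (ih (Nat.add base (Nat.pow 2 k)) n)) (Nat.blt base n)) d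

theorem orSeg_testBit (f : ℕ → ℕ) : ∀ (d base n j : ℕ), (orSeg f d base n).testBit j = true →
    ∃ i < n, (f i).testBit j = true := by
  intro d
  induction d with
  | zero =>
    intro base n j h
    change (Bool.rec 0 (f base) (Nat.blt base n) : ℕ).testBit j = true at h
    cases hb : Nat.blt base n
    · rw [hb] at h; simp at h
    · rw [hb] at h
      exact ⟨base, (Nat.blt_eq).to_iff.mp hb, h⟩
  | succ k ih =>
    intro base n j h
    change (Bool.rec 0 (orSeg f k base n ||| orSeg f k (base + 2 ^ k) n)
      (Nat.blt base n) : ℕ).testBit j = true at h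
    cases hb : Nat.blt base n
    · rw [hb] at h; simp at h
    · rw [hb] at h
      simp only [Nat.testBit_or, Bool.or_eq_true] at h
      rcases h with h | h
      · exact ih _ _ _ h
      · exact ih _ _ _ h

/-- The node stored at position `e` of a tree table: bits 0..11 of the entry. -/
noncomputable def treeNode (tbl : List ℕ) (e : ℕ) : ℕ := Nat.land (tblGet 32 tbl e) 4095

/-- Check of a spanning tree: entry `e` holds a node, an earlier position of its parent
(bits 12..23) and the number of the generator leading to it (bits 24..). -/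
noncomputable def treeCheck (n ngen : ℕ) (img : ℕ → ℕ → ℕ → Bool) (root : ℕ) (tbl : List ℕ)
    (len : ℕ) : Bool :=
  Nat.blt root n && (Nat.beq (treeNode tbl 0) root) && allBelow 12 len fun e =>
    forceNat (tblGet 32 tbl e) fun v =>
    forceNat (Nat.land (Nat.shiftRight v 12) 4095) fun p =>
    forceNat (Nat.shiftRight v 24) fun k =>
    forceNat (Nat.land v 4095) fun j =>
      Nat.beq e 0 || (Nat.blt p e && Nat.blt k ngen && Nat.blt j n && img k (treeNode tbl p) j)

/-- Check that all indices in the class `cls` occur among the first `len` nodes. -/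
noncomputable def coverCheck (n : ℕ) (tbl : List ℕ) (len : ℕ) (cls : ℕ → Bool) : Bool :=
  forceNat (orSeg (fun e => Nat.shiftLeft 1 (treeNode tbl e)) 12 0 len) fun bits =>
    allBelow 12 n fun i => !(cls i) || Nat.beq (Nat.land (Nat.shiftRight bits i) 1) 1

section

variable {G β : Type*} [Group G] [MulAction G β] {dec : ℕ → β} {n ngen : ℕ} {gen : ℕ → G}
  {img : ℕ → ℕ → ℕ → Bool} {root len : ℕ} {tbl : List ℕ}

theorem tree_mem_orbit
    (himg : ∀ k < ngen, ∀ i < n, ∀ j < n, img k i j = true → gen k • dec i = dec j)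
    (h : treeCheck n ngen img root tbl len = true) :
    ∀ e < len, treeNode tbl e < n ∧ dec (treeNode tbl e) ∈ MulAction.orbit G (dec root) := by
  rw [treeCheck, Bool.and_eq_true, Bool.and_eq_true, Nat.blt_eq, Nat.beq_eq] at h
  obtain ⟨⟨hr, h0⟩, hall⟩ := h
  intro e
  induction e using Nat.strong_induction_on with
  | _ e ih =>
    intro he
    have h := allBelow_spec hall he
    simp only [forceNat_eq, Bool.or_eq_true, Bool.and_eq_true, Nat.beq_eq, Nat.blt_eq] at h
    rcases h with rfl | ⟨⟨⟨hp, hk⟩, hj⟩, hi⟩
    · exact ⟨h0 ▸ hr, h0 ▸ MulAction.mem_orbit_self _⟩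
    · obtain ⟨hpn, hpo⟩ := ih _ hp (hp.trans he)
      refine ⟨hj, ?_⟩
      have := himg _ hk _ hpn _ hj hi
      change dec (Nat.land (tblGet 32 tbl e) 4095) ∈ _
      rw [← this]
      exact MulAction.mem_orbit_of_mem_orbit _ hpo

theorem class_subset_orbit
    (himg : ∀ k < ngen, ∀ i < n, ∀ j < n, img k i j = true → gen k • dec i = dec j)
    (h : treeCheck n ngen img root tbl len = true) {cls : ℕ → Bool}
    (hc : coverCheck n tbl len cls = true) {i : ℕ} (hi : i < n) (hcls : cls i = true) :
    dec i ∈ MulAction.orbit G (dec root) := by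
  rw [coverCheck, forceNat_eq] at hc
  have h2 := allBelow_spec hc hi
  rw [hcls, Bool.not_true, Bool.false_or, Nat.beq_eq] at h2
  have hb : (orSeg (fun e => Nat.shiftLeft 1 (treeNode tbl e)) 12 0 len).testBit i = true := by
    rw [Nat.testBit_eq_decide_div_mod_eq, decide_eq_true_eq, ← Nat.shiftRight_eq_div_pow,
      ← Nat.and_one_is_mod]
    exact h2
  obtain ⟨e, he, heb⟩ := orSeg_testBit _ _ _ _ _ hb
  have : treeNode tbl e = i := by
    change ((1 <<< treeNode tbl e : ℕ)).testBit i = true at heb
    rw [Nat.one_shiftLeft, Nat.testBit_two_pow] at heb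
    simpa using heb
  exact this ▸ (tree_mem_orbit himg h e he).2

/-- An orbit is a class: the class is covered by a tree and preserved by the group. -/
theorem orbit_eq_class
    (himg : ∀ k < ngen, ∀ i < n, ∀ j < n, img k i j = true → gen k • dec i = dec j)
    (h : treeCheck n ngen img root tbl len = true) {cls : ℕ → Bool}
    (hc : coverCheck n tbl len cls = true) (hroot : cls root = true)
    (hclosed : ∀ (g : G), ∀ i < n, cls i = true →
      ∃ j < n, cls j = true ∧ g • dec i = dec j) :
    MulAction.orbit G (dec root) = dec '' {i | i < n ∧ cls i = true} := by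
  have hr : root < n := by
    rw [treeCheck, Bool.and_eq_true, Bool.and_eq_true, Nat.blt_eq] at h
    exact h.1.1
  ext b
  constructor
  · rintro ⟨g, rfl⟩
    obtain ⟨j, hj, hcj, he⟩ := hclosed g root hr hroot
    exact ⟨j, ⟨hj, hcj⟩, he.symm⟩
  · rintro ⟨i, ⟨hi, hci⟩, rfl⟩
    exact class_subset_orbit himg h hc hi hci

end

/-- Number of `i` with `f i` and `base ≤ i < base + 2^d`, `i < n`. -/
noncomputable def countSeg (f : ℕ → Bool) (d : ℕ) : ℕ → ℕ → ℕ :=
  Nat.rec (motive := fun _ => ℕ → ℕ → ℕ)
    (fun base n => Bool.rec 0 (Bool.rec 0 1 (f base)) (Nat.blt base n))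
    (fun k ih base n => Bool.rec 0
      (Nat.add (ih base n) (ih (Nat.add base (Nat.pow 2 k)) n)) (Nat.blt base n)) d

theorem countSeg_eq (f : ℕ → Bool) : ∀ (d base n : ℕ), countSeg f d base n =
    ((Finset.Ico base (base + 2 ^ d)).filter fun i => i < n ∧ f i = true).card := by
  intro d
  induction d with
  | zero =>
    intro base n
    rw [show base + 2 ^ 0 = base + 1 from rfl, Nat.Ico_succ_singleton, Finset.filter_singleton]
    change (Bool.rec 0 (Bool.rec 0 1 (f base)) (Nat.blt base n) : ℕ) = _
    cases hb : Nat.blt base n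
    · have : ¬ base < n := fun h => by
        have := (Nat.blt_eq).to_iff.mpr h
        rw [hb] at this
        cases this
      simp [this]
    · have : base < n := (Nat.blt_eq).to_iff.mp hb
      cases hf : f base <;> simp [this]
  | succ k ih =>
    intro base n
    change (Bool.rec 0 (countSeg f k base n + countSeg f k (base + 2 ^ k) n)
      (Nat.blt base n) : ℕ) = _
    cases hb : Nat.blt base n
    · have h : ¬ base < n := fun h => by
        have := (Nat.blt_eq).to_iff.mpr h
        rw [hb] at this
        cases this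
      rw [Finset.filter_eq_empty_iff.mpr, Finset.card_empty]
      intro i hi
      rw [Finset.mem_Ico] at hi
      omega
    · change countSeg f k base n + countSeg f k (base + 2 ^ k) n = _
      rw [ih, ih, ← Finset.card_union_of_disjoint, ← Finset.filter_union]
      · congr 2
        rw [Finset.Ico_union_Ico_eq_Ico (Nat.le_add_right _ _) (Nat.le_add_right _ _)]
        congr 1
        rw [Nat.pow_succ]
        omega
      · refine Finset.disjoint_filter_filter ?_
        rw [Finset.disjoint_left]
        intro i h1 h2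
        rw [Finset.mem_Ico] at h1 h2
        omega

/-- Number of `i < n` with `f i`, for `n ≤ 4096`. -/
noncomputable def countBelow (n : ℕ) (f : ℕ → Bool) : ℕ :=
  Bool.rec 0 (countSeg f 12 0 n) (Nat.ble n 4096)

theorem countBelow_eq {n : ℕ} (hn : n ≤ 4096) (f : ℕ → Bool) :
    countBelow n f = Set.ncard {i | i < n ∧ f i = true} := by
  have hb : Nat.ble n 4096 = true := Nat.ble_eq.mpr hn
  rw [countBelow, hb]
  change countSeg f 12 0 n = _
  rw [countSeg_eq, ← Set.ncard_coe_finset]
  congr 1
  ext i
  simp only [Finset.coe_filter, Finset.mem_Ico, Set.mem_ofPred_eq]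
  constructor
  · rintro ⟨-, h⟩; exact h
  · intro h; exact ⟨⟨by omega, by omega⟩, h⟩

/-- Size of the image of a class under an injective indexing. -/
theorem ncard_image_class {β : Type*} {dec : ℕ → β} {n : ℕ} (hn : n ≤ 4096)
    (hinj : Set.InjOn dec (Set.Iio n)) (f : ℕ → Bool) :
    (dec '' {i | i < n ∧ f i = true}).ncard = countBelow n f := by
  rw [countBelow_eq hn, Set.InjOn.ncard_image (hinj.mono fun i hi => hi.1)]

/-- Orbits of conjugate point stabilisers correspond. -/
theorem orbit_stabilizer_smul {G α β : Type*} [Group G] [MulAction G α] [MulAction G β]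
    (g : G) (a : α) (x : β) :
    MulAction.orbit ↥(MulAction.stabilizer G (g • a)) (g • x) =
      g • MulAction.orbit ↥(MulAction.stabilizer G a) x := by
  ext b
  constructor
  · rintro ⟨⟨h, hh⟩, rfl⟩
    refine ⟨(g⁻¹ * h * g) • x, ⟨⟨g⁻¹ * h * g, ?_⟩, rfl⟩, ?_⟩
    · rw [MulAction.mem_stabilizer_iff] at hh ⊢
      rw [mul_smul, mul_smul, hh, inv_smul_smul]
    · simp only [mul_smul, smul_inv_smul]
      rfl
  · rintro ⟨_, ⟨⟨h, hh⟩, rfl⟩, rfl⟩
    refine ⟨⟨g * h * g⁻¹, ?_⟩, ?_⟩
    · rw [MulAction.mem_stabilizer_iff] at hh ⊢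
      rw [mul_smul, mul_smul, inv_smul_smul, hh]
    · change (g * h * g⁻¹) • g • x = g • h • x
      rw [mul_smul, mul_smul, inv_smul_smul]

end Cfsg.Agent.H12
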