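import Cfsg.Agent.H12.Enum
import Cfsg.Agent.H12.Orbit

/-!
`M24` on octads, trios and sextets: images by tables, the intersection invariant `phi`, and
orbits of stabilisers as classes of `phi`.
-/

set_option autoImplicit false

namespace Cfsg.Agent.H12

open scoped Pointwise

theorem smul_mem_trios {g : Equiv.Perm GolayPt} (hg : g ∈ M24) {T : Finset (Finset GolayPt)}
    (hT : T ∈ trios) : g • T ∈ trios := by
  obtain ⟨h1, h2, h3⟩ := hT
  refine ⟨by rw [Finset.card_smul_finset, h1], ?_, ?_⟩
  · intro o ho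
    obtain ⟨x, hx, rfl⟩ := Finset.mem_smul_finset.mp ho
    exact (smul_mem_octads hg).mpr (h2 x hx)
  · intro o ho o' ho' hne
    obtain ⟨x, hx, rfl⟩ := Finset.mem_smul_finset.mp ho
    obtain ⟨y, hy, rfl⟩ := Finset.mem_smul_finset.mp ho'
    have := h3 x hx y hy (fun e => hne (e ▸ rfl))
    rw [Finset.disjoint_left] at this ⊢
    intro p hp hp'
    obtain ⟨a, ha, rfl⟩ := Finset.mem_smul_finset.mp hp
    exact this ha (Finset.smul_mem_smul_finset_iff (a := g) |>.mp hp')

theorem smul_mem_sextets {g : Equiv.Perm GolayPt} (hg : g ∈ M24) {S : Finset (Finset GolayPt)}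
    (hS : S ∈ sextets) : g • S ∈ sextets := by
  obtain ⟨h1, h2, h3⟩ := hS
  refine ⟨by rw [Finset.card_smul_finset, h1], ?_, ?_⟩
  · intro t ht
    obtain ⟨x, hx, rfl⟩ := Finset.mem_smul_finset.mp ht
    rw [Finset.card_smul_finset, h2 x hx]
  · intro t ht u hu hne
    obtain ⟨x, hx, rfl⟩ := Finset.mem_smul_finset.mp ht
    obtain ⟨y, hy, rfl⟩ := Finset.mem_smul_finset.mp hu
    rw [← Finset.smul_finset_union]
    exact (smul_mem_octads hg).mpr (h3 x hx y hy (fun e => hne (e ▸ rfl)))

/-! ### The intersection invariant -/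

/-- Sum of the squares of the mutual intersections of two families of sets. -/
def phi (A B : Finset (Finset GolayPt)) : ℕ := ∑ a ∈ A, ∑ b ∈ B, (a ∩ b).card ^ 2

theorem phi_smul (g : Equiv.Perm GolayPt) (A B : Finset (Finset GolayPt)) :
    phi (g • A) (g • B) = phi A B := by
  have key : ∀ (C : Finset (Finset GolayPt)) (f : Finset GolayPt → ℕ),
      ∑ c ∈ g • C, f c = ∑ c ∈ C, f (g • c) := by
    intro C f
    rw [Finset.smul_finset_def, Finset.sum_image fun x _ y _ h => smul_left_cancel g h]
  simp only [phi, key]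
  refine Finset.sum_congr rfl fun a _ => Finset.sum_congr rfl fun b _ => ?_
  rw [← Finset.smul_finset_inter, Finset.card_smul_finset]

/-- `phi` on mask lists, for the kernel. -/
noncomputable def phiList (A B : List ℕ) : ℕ :=
  List.rec (motive := fun _ => ℕ) 0 (fun a _ ih => Nat.add ih
    (List.rec (motive := fun _ => ℕ) 0
      (fun b _ ih' => Nat.add ih' (forceNat (pop (Nat.land a b)) fun n => Nat.mul n n)) B)) A

theorem phi_fins {A B : List ℕ} (hA : (fins A).card = A.length) (hB : (fins B).card = B.length) :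
    phi (fins A) (fins B) = phiList A B := by
  have nd : ∀ {L : List ℕ}, (fins L).card = L.length → (L.map fin).Nodup := by
    intro L h
    rw [fins, List.card_toFinset, ← List.length_map (as := L) fin] at h
    exact List.dedup_eq_self.mp ((List.dedup_sublist _).eq_of_length h)
  have inner : ∀ (a : ℕ) (L : List ℕ),
      ((L.map fin).map fun b => (fin a ∩ b).card ^ 2).sum =
        List.rec (motive := fun _ => ℕ) 0
          (fun b _ ih' => Nat.add ih' (forceNat (pop (Nat.land a b)) fun n => Nat.mul n n)) L := by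
    intro a L
    induction L with
    | nil => rfl
    | cons b L ih =>
      simp only [List.map_cons, List.sum_cons, ih]
      rw [← fin_land, card_fin, forceNat_eq, sq, add_comm]
      rfl
  rw [phi, fins, List.sum_toFinset _ (nd hA)]
  have : ∀ a ∈ A.map fin, (∑ b ∈ fins B, (a ∩ b).card ^ 2) =
      ((B.map fin).map fun b => (a ∩ b).card ^ 2).sum := by
    intro a _
    rw [fins, List.sum_toFinset _ (nd hB)]
  rw [List.map_congr_left this, List.map_map]
  clear this hA
  induction A with
  | nil => rfl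
  | cons a A ih =>
    simp only [List.map_cons, List.sum_cons, Function.comp]
    rw [inner a B]
    simp only [Function.comp_def] at ih ⊢
    rw [ih, add_comm]
    rfl

/-- The `k`th octad as a one-element family. -/
noncomputable def octList1 (k : ℕ) : List ℕ := [octMask k]

/-- The `k`th trio as a list of masks. -/
noncomputable def trioList (k : ℕ) : List ℕ := [trioA k, trioB k, trioC k]

theorem trioSet_eq (k : ℕ) : trioSet k = fins (trioList k) := by
  simp [trioSet, trioList, fins]

theorem octList1_spec (k : ℕ) : ({octSet k} : Finset (Finset GolayPt)) = fins (octList1 k) ∧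
    (fins (octList1 k)).card = (octList1 k).length := by
  simp [octList1, fins, octSet]

theorem trioList_spec {k : ℕ} (hk : k < 3795) : trioSet k = fins (trioList k) ∧
    (fins (trioList k)).card = (trioList k).length :=
  ⟨trioSet_eq k, by rw [← trioSet_eq, (trioSet_mem hk).1]; rfl⟩

theorem sextList_spec {k : ℕ} (hk : k < 1771) : sextSet k = fins (sextList k) ∧
    (fins (sextList k)).card = (sextList k).length :=
  ⟨rfl, (sextOK_spec (fun _ hm => sextList_lt hm) (sext_props hk).1).2.1⟩

/-! ### Generators and images -/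

/-- A packed permutation in `M24` together with its image tables. -/
noncomputable def genOK (x : ℕ × List ℕ) : Bool := fixesCode x.1 && isImgTbl x.1 x.2

theorem genOK_spec {x : ℕ × List ℕ} (h : genOK x = true) :
    isPerm x.1 = true ∧ isImgTbl x.1 x.2 = true ∧ permOf x.1 ∈ M24 := by
  rw [genOK, Bool.and_eq_true] at h
  refine ⟨?_, h.2, permOf_mem_M24 h.1⟩
  have := h.1
  rw [fixesCode, Bool.and_eq_true] at this
  exact this.1

theorem smul_fin_fast {x : ℕ × List ℕ} (h : genOK x = true) {m : ℕ} (hm : m < 2 ^ 24) :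
    permOf x.1 • fin m = fin (imgFast x.2 m) := by
  rw [smul_fin (genOK_spec h).1, imgFast_eq (genOK_spec h).2.1 hm]

/-- `a` occurs in a list. -/
noncomputable def memList (a : ℕ) (l : List ℕ) : Bool :=
  List.rec (motive := fun _ => Bool) false (fun b _ ih => Bool.rec ih true (Nat.beq a b)) l

theorem memList_spec {a : ℕ} {l : List ℕ} (h : memList a l = true) : a ∈ l := by
  induction l with
  | nil => exact absurd h (by simp [memList])
  | cons b l ih =>
    have h' : Bool.rec (memList a l) true (Nat.beq a b) = true := h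
    cases hb : Nat.beq a b
    · rw [hb] at h'; exact List.mem_cons_of_mem _ (ih h')
    · rw [(Nat.beq_eq).to_iff.mp hb]; exact List.mem_cons_self ..

/-- Image check for octads. -/
noncomputable def octImg (T : List ℕ) (i j : ℕ) : Bool :=
  Nat.beq (imgFast T (octMask i)) (octMask j)

/-- Image check for trios. -/
noncomputable def trioImg (T : List ℕ) (i j : ℕ) : Bool :=
  forceNat (imgFast T (trioA i)) fun a => forceNat (imgFast T (trioB i)) fun b =>
    memList a (trioList j) && memList b (trioList j)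

/-- Image check for sextets. -/
noncomputable def sextImg (T : List ℕ) (i j : ℕ) : Bool :=
  forceNat (imgFast T (sextHead i)) fun a => memList a (sextList j)

theorem octImg_spec {x : ℕ × List ℕ} (h : genOK x = true) {i j : ℕ} (hi : i < 759)
    (hc : octImg x.2 i j = true) : permOf x.1 • octSet i = octSet j := by
  rw [octImg, Nat.beq_eq] at hc
  rw [octSet, smul_fin_fast h (octMask_lt hi), hc]
  rfl

theorem trioImg_spec {x : ℕ × List ℕ} (h : genOK x = true) {i j : ℕ} (hi : i < 3795)
    (hj : j < 3795) (hc : trioImg x.2 i j = true) : permOf x.1 • trioSet i = trioSet j := by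
  simp only [trioImg, forceNat_eq, Bool.and_eq_true] at hc
  obtain ⟨ha, hb, -, hab, -⟩ := trio_props hi
  have hne : fin (trioA i) ≠ fin (trioB i) := by
    intro e
    have h0 := congrArg Finset.card (fin_land (trioA i) (trioB i))
    rw [hab, fin_zero, ← e, Finset.inter_self, fin_card_of_isOctad ha] at h0
    simp at h0
  refine trio_ext (smul_mem_trios (genOK_spec h).2.2 (trioSet_mem hi)) (trioSet_mem hj)
    (a := permOf x.1 • fin (trioA i)) (b := permOf x.1 • fin (trioB i))
    (fun e => hne (smul_left_cancel _ e)) ?_ ?_ ?_ ?_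
  · exact Finset.smul_mem_smul_finset (by simp [trioSet])
  · exact Finset.smul_mem_smul_finset (by simp [trioSet])
  · rw [smul_fin_fast h (isOctad_lt ha), trioSet_eq, mem_fins]
    exact ⟨_, memList_spec hc.1, rfl⟩
  · rw [smul_fin_fast h (isOctad_lt hb), trioSet_eq, mem_fins]
    exact ⟨_, memList_spec hc.2, rfl⟩

theorem sextImg_spec {x : ℕ × List ℕ} (h : genOK x = true) {i j : ℕ} (hi : i < 1771)
    (hj : j < 1771) (hc : sextImg x.2 i j = true) : permOf x.1 • sextSet i = sextSet j := by
  simp only [sextImg, forceNat_eq] at hc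
  refine sextet_ext (smul_mem_sextets (genOK_spec h).2.2 (sextSet_mem hi)) (sextSet_mem hj)
    (t := permOf x.1 • fin (sextHead i)) (Finset.smul_mem_smul_finset (sextHead_mem i)) ?_
  rw [smul_fin_fast h (show sextHead i < 2 ^ 24 from Nat.lt_succ_of_le Nat.and_le_right), sextSet,
    mem_fins]
  exact ⟨_, memList_spec hc, rfl⟩

theorem smul_fins_eq_self {x : ℕ × List ℕ} (h : genOK x = true) {L : List ℕ}
    (hL : ∀ m ∈ L, m < 2 ^ 24) (hcard : (fins L).card = L.length)
    (hm : allList L (fun m => memList (imgFast x.2 m) L) = true) :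
    permOf x.1 • fins L = fins L := by
  refine Finset.eq_of_subset_of_card_le ?_ (by rw [Finset.card_smul_finset, hcard])
  intro s hs
  obtain ⟨t, ht, rfl⟩ := Finset.mem_smul_finset.mp hs
  obtain ⟨m, hm', rfl⟩ := mem_fins.mp ht
  rw [smul_fin_fast h (hL m hm'), mem_fins]
  exact ⟨_, memList_spec (allList_spec hm m hm'), rfl⟩

/-! ### Classes -/

section

variable {α β : Type*} [MulAction (Equiv.Perm GolayPt) α] [MulAction (Equiv.Perm GolayPt) β]

/-- The members `x` of `S` with `phi (famA a) (famB x) = c`. -/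
def phiClass (famA : α → Finset (Finset GolayPt)) (famB : β → Finset (Finset GolayPt))
    (S : Set β) (a : α) (c : ℕ) : Set β :=
  {x | x ∈ S ∧ phi (famA a) (famB x) = c}

variable {famA : α → Finset (Finset GolayPt)} {famB : β → Finset (Finset GolayPt)} {S : Set β}

theorem smul_phiClass (hA : ∀ (g : Equiv.Perm GolayPt) a, famA (g • a) = g • famA a)
    (hB : ∀ (g : Equiv.Perm GolayPt) x, famB (g • x) = g • famB x)
    (hS : ∀ g ∈ M24, ∀ x ∈ S, g • x ∈ S) (g : M24) (a : α) (c : ℕ) :
    g • phiClass famA famB S a c = phiClass famA famB S (g • a) c := by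
  ext x
  rw [Set.mem_smul_set_iff_inv_smul_mem]
  simp only [phiClass, Set.mem_ofPred_eq, Subgroup.smul_def, InvMemClass.coe_inv]
  rw [← phi_smul (g : Equiv.Perm GolayPt) (famA a), ← hA, ← hB, smul_inv_smul]
  refine and_congr_left fun _ => ⟨fun h => ?_, fun h => hS _ (M24.inv_mem g.2) _ h⟩
  simpa using hS _ g.2 _ h

/-- Everything the kernel checks for one orbit of a stabiliser. -/
noncomputable def classCheck (n : ℕ) (lst : ℕ → List ℕ) (img : List ℕ → ℕ → ℕ → Bool)
    (gens : List (ℕ × List ℕ)) (LA : List ℕ) (c root count len : ℕ) (tbl : List ℕ) : Bool :=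
  treeCheck n gens.length (fun k => img (gens.getD k (0, [])).2) root tbl len &&
    coverCheck n tbl len (fun i => Nat.beq (phiList LA (lst i)) c) &&
    Nat.beq (phiList LA (lst root)) c &&
    Nat.beq (countBelow n fun i => Nat.beq (phiList LA (lst i)) c) count

/-- Kernel check that the classes `cs` cover the whole family. -/
noncomputable def classesCover (n : ℕ) (lst : ℕ → List ℕ) (LA cs : List ℕ) : Bool :=
  allBelow 12 n fun i => memList (phiList LA (lst i)) cs

variable {dec : ℕ → β} {lst : ℕ → List ℕ} {n : ℕ} {a : α} {LA : List ℕ}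

theorem orbit_eq_phiClass (hA : ∀ (g : Equiv.Perm GolayPt) a, famA (g • a) = g • famA a)
    (hB : ∀ (g : Equiv.Perm GolayPt) x, famB (g • x) = g • famB x)
    (hS : ∀ g ∈ M24, ∀ x ∈ S, g • x ∈ S) (hSeq : S = dec '' Set.Iio n) (hn : n ≤ 4096)
    (hinj : Set.InjOn dec (Set.Iio n))
    (hlst : ∀ i < n, famB (dec i) = fins (lst i) ∧ (fins (lst i)).card = (lst i).length)
    (ha : famA a = fins LA ∧ (fins LA).card = LA.length)
    {gens : List (ℕ × List ℕ)}
    (hgens : ∀ x ∈ gens, genOK x = true ∧ permOf x.1 • a = a)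
    {img : List ℕ → ℕ → ℕ → Bool}
    (himg : ∀ x, genOK x = true → ∀ i < n, ∀ j < n, img x.2 i j = true →
      permOf x.1 • dec i = dec j)
    {c root count len : ℕ} {tbl : List ℕ}
    (h : classCheck n lst img gens LA c root count len tbl = true) :
    MulAction.orbit ↥(MulAction.stabilizer M24 a) (dec root) = phiClass famA famB S a c ∧
      (phiClass famA famB S a c).ncard = count ∧ dec root ∈ S := by
  classical
  simp only [classCheck, Bool.and_eq_true, Nat.beq_eq] at h
  obtain ⟨⟨⟨htree, hcover⟩, hroot⟩, hcount⟩ := h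
  have hr : root < n := by
    rw [treeCheck, Bool.and_eq_true, Bool.and_eq_true, Nat.blt_eq] at htree
    exact htree.1.1
  have hphi : ∀ i < n, phi (famA a) (famB (dec i)) = phiList LA (lst i) := by
    intro i hi
    rw [ha.1, (hlst i hi).1, phi_fins ha.2 (hlst i hi).2]
  have hcls : phiClass famA famB S a c =
      dec '' {i | i < n ∧ Nat.beq (phiList LA (lst i)) c = true} := by
    ext x
    simp only [phiClass, Set.mem_ofPred_eq, Set.mem_image, hSeq, Set.mem_Iio, Nat.beq_eq]
    constructor
    · rintro ⟨⟨i, hi, rfl⟩, he⟩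
      exact ⟨i, ⟨hi, by rw [← hphi i hi, he]⟩, rfl⟩
    · rintro ⟨i, ⟨hi, he⟩, rfl⟩
      exact ⟨⟨i, hi, rfl⟩, by rw [hphi i hi, he]⟩
  let gen : ℕ → ↥(MulAction.stabilizer M24 a) := fun k =>
    if hk : (gens.getD k (0, [])) ∈ gens then
      ⟨⟨permOf (gens.getD k (0, [])).1, (genOK_spec (hgens _ hk).1).2.2⟩,
        MulAction.mem_stabilizer_iff.mpr (hgens _ hk).2⟩
    else 1
  refine ⟨?_, ?_, hSeq ▸ ⟨root, hr, rfl⟩⟩
  · rw [hcls]
    refine orbit_eq_class (gen := gen) ?_ htree hcover (Nat.beq_eq.to_iff.mpr hroot) ?_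
    · intro k hk i hi j hj hij
      have hmem : gens.getD k (0, []) ∈ gens := by
        rw [List.getD_eq_getElem?_getD, List.getElem?_eq_getElem hk]
        exact List.getElem_mem hk
      simp only [gen, dif_pos hmem]
      exact himg _ (hgens _ hmem).1 i hi j hj hij
    · intro g i hi hci
      have hfix : (g : M24) • a = a := g.2
      have hx : (g : M24) • dec i ∈ phiClass famA famB S a c := by
        have hs := smul_phiClass hA hB hS (g : M24) a c
        rw [hfix] at hs
        rw [← hs]
        exact Set.smul_mem_smul_set (hcls ▸ ⟨i, ⟨hi, hci⟩, rfl⟩)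
      rw [hcls] at hx
      obtain ⟨j, ⟨hj, hcj⟩, he⟩ := hx
      exact ⟨j, hj, hcj, he.symm⟩
  · rw [hcls, ncard_image_class hn hinj, hcount]

theorem exists_orbit_of_smul (hA : ∀ (g : Equiv.Perm GolayPt) a, famA (g • a) = g • famA a)
    (hB : ∀ (g : Equiv.Perm GolayPt) x, famB (g • x) = g • famB x)
    (hS : ∀ g ∈ M24, ∀ x ∈ S, g • x ∈ S) {c count : ℕ} {x : β}
    (h : MulAction.orbit ↥(MulAction.stabilizer M24 a) x = phiClass famA famB S a c ∧
      (phiClass famA famB S a c).ncard = count ∧ x ∈ S) (g : M24) :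
    ∃ X ∈ S, MulAction.orbit ↥(MulAction.stabilizer M24 (g • a)) X
        = phiClass famA famB S (g • a) c ∧
      (phiClass famA famB S (g • a) c).ncard = count := by
  refine ⟨g • x, hS _ g.2 _ h.2.2, ?_, ?_⟩
  · rw [orbit_stabilizer_smul, h.1, smul_phiClass hA hB hS]
  · rw [← smul_phiClass hA hB hS, Set.ncard_smul_set, h.2.1]

theorem phi_mem_of_cover (hA : ∀ (g : Equiv.Perm GolayPt) a, famA (g • a) = g • famA a)
    (hB : ∀ (g : Equiv.Perm GolayPt) x, famB (g • x) = g • famB x)
    (hS : ∀ g ∈ M24, ∀ x ∈ S, g • x ∈ S) (hSeq : S = dec '' Set.Iio n)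
    (hlst : ∀ i < n, famB (dec i) = fins (lst i) ∧ (fins (lst i)).card = (lst i).length)
    (ha : famA a = fins LA ∧ (fins LA).card = LA.length) {cs : List ℕ}
    (h : classesCover n lst LA cs = true) (g : M24) {x : β} (hx : x ∈ S) :
    phi (famA (g • a)) (famB x) ∈ cs := by
  have hx' := hS _ (M24.inv_mem g.2) _ hx
  rw [hSeq] at hx'
  obtain ⟨i, hi, he⟩ := hx'
  have hxe : x = (g : Equiv.Perm GolayPt) • dec i := by rw [he, smul_inv_smul]
  rw [hxe, Subgroup.smul_def, hA, hB, phi_smul, ha.1, (hlst i hi).1, phi_fins ha.2 (hlst i hi).2]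
  exact memList_spec (allBelow_spec h hi)

end

end Cfsg.Agent.H12
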