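import Cfsg.Agent.H12.Five
import Cfsg.Agent.H12.Families
import Cfsg.Agent.H12.ClassData

/-!
The classes of elements of order 2 and of order 3 in `M24`: two each.
-/

set_option autoImplicit false

namespace Cfsg.Agent.H12

open scoped Pointwise

/-- `k` read as a five-tuple of images. -/
noncomputable def tupI (k : ℕ) : ℕ → ℕ := chunkGet [1, 0, 3, 2, k]

/-- `k` read as a five-tuple of images. -/
noncomputable def tupT (k : ℕ) : ℕ → ℕ := chunkGet [1, 2, 0, 4, k]

/-- Test for a square-trivial map. -/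
noncomputable def testSq (f : ℕ → ℕ) : Bool := allList pts24 fun i => Nat.beq (f (f i)) i

/-- Test for a cube-trivial map. -/
noncomputable def testCube (f : ℕ → ℕ) : Bool :=
  allList pts24 fun i => Nat.beq (f (f (f i))) i

/-- Candidates for involutions. -/
noncomputable def involCands : List ℕ := scanList 24 (fun k => Nat.ble 4 k) tupI testSq

/-- Candidates for elements of order 3. -/
noncomputable def cubeCands : List ℕ :=
  scanList 24 (fun k => !(Nat.beq k 0 || Nat.beq k 1 || Nat.beq k 2 || Nat.beq k 4)) tupT testCube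

theorem tupI_ok : scanOK 5 24 (fun k => Nat.ble 4 k) tupI = true := by decide +kernel

theorem tupT_ok : scanOK 5 24 (fun k => !(Nat.beq k 0 || Nat.beq k 1 || Nat.beq k 2 || Nat.beq k 4))
    tupT = true := by
  decide +kernel

theorem allList_of_forall {l : List ℕ} {f : ℕ → Bool} (h : ∀ a ∈ l, f a = true) :
    allList l f = true := by
  induction l with
  | nil => rfl
  | cons a l ih =>
    show Bool.rec false (allList l f) (f a) = true
    rw [h a (List.mem_cons_self ..)]
    exact ih fun b hb => h b (List.mem_cons_of_mem _ hb)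

/-- A certificate `(x, r, images)`: some element with these five images conjugates `rep r` to `x`. -/
noncomputable def conjOK (rep0 rep1 : ℕ) (e : ℕ × ℕ × ℕ) : Bool :=
  forceNat e.1 fun x => forceNat (cond (Nat.beq e.2.1 0) rep0 rep1) fun r =>
  forceNat e.2.2 fun t =>
  forceNat (mapFive (app t 0) (app t 1) (app t 2) (app t 3) (app t 4)) fun P =>
    fix5.any fun h => allList pts24 fun i =>
      Nat.beq (compFun P h (app r i)) (app x (compFun P h i))

theorem rep_checks : (fixesCode rep2A && fixesCode rep2B && fixesCode rep3A && fixesCode rep3B) = true := by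
  decide +kernel

theorem rep_ok : ∀ r ∈ [rep2A, rep2B, rep3A, rep3B], isPerm r = true ∧ permOf r ∈ M24 := by
  intro r hr
  have h := rep_checks
  simp only [Bool.and_eq_true] at h
  have hs : ∀ P, fixesCode P = true → isPerm P = true ∧ permOf P ∈ M24 := by
    intro P hP
    refine ⟨?_, permOf_mem_M24 hP⟩
    rw [fixesCode, Bool.and_eq_true] at hP
    exact hP.1
  simp only [List.mem_cons, List.not_mem_nil, or_false] at hr
  rcases hr with rfl | rfl | rfl | rfl
  exacts [hs _ h.1.1.1, hs _ h.1.1.2, hs _ h.1.2, hs _ h.2]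

theorem conj2_check : (allList involCands (fun c => memList c (conj2Data.map Prod.fst)) &&
    conj2Data.all (conjOK rep2A rep2B)) = true := by
  decide +kernel

theorem conj3_check : (allList cubeCands (fun c => memList c (conj3Data.map Prod.fst)) &&
    conj3Data.all (conjOK rep3A rep3B)) = true := by
  decide +kernel

theorem conj_of_conjOK {rep0 rep1 : ℕ} (h0 : isPerm rep0 = true ∧ permOf rep0 ∈ M24)
    (h1 : isPerm rep1 = true ∧ permOf rep1 ∈ M24) {e : ℕ × ℕ × ℕ}
    (hx : isPerm e.1 = true) (h : conjOK rep0 rep1 e = true) :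
    ∃ k ∈ M24, permOf e.1 = k * permOf rep0 * k⁻¹ ∨ permOf e.1 = k * permOf rep1 * k⁻¹ := by
  simp only [conjOK, forceNat_eq, List.any_eq_true] at h
  obtain ⟨x, hmem, hx'⟩ := h
  obtain ⟨hxp, hxm, -, -⟩ := fix5_spec hmem
  generalize hP : mapFive _ _ _ _ _ = P at hx'
  have hPs : isPerm P = true ∧ permOf P ∈ M24 := hP ▸ mapFive_spec ..
  obtain ⟨hc, hcm⟩ := pmul_mem hPs ⟨hxp, hxm⟩
  refine ⟨permOf (pmul P x), hcm, ?_⟩
  have key : ∀ r, isPerm r = true →
      (∀ i < 24, compFun P x (app r i) = app e.1 (compFun P x i)) →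
      permOf e.1 = permOf (pmul P x) * permOf r * (permOf (pmul P x))⁻¹ := by
    intro r hr hall
    rw [eq_mul_inv_iff_mul_eq]
    refine Equiv.ext (forall_pt.mpr fun i hi => ?_)
    rw [Equiv.Perm.mul_apply, Equiv.Perm.mul_apply, permOf_pt hc hi, permOf_pt hx (app_lt hc hi),
      permOf_pt hr hi, permOf_pt hc (app_lt hr hi), ← compFun_eq hi, ← compFun_eq (app_lt hr hi),
      hall i hi]
  have hall := fun i (hi : i < 24) => Nat.beq_eq.to_iff.mp (allList_spec hx' i (mem_pts24.mpr hi))
  cases hb : Nat.beq e.2.1 0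
  · simp only [hb, cond_false] at hall
    exact Or.inr (key rep1 h1.1 hall)
  · simp only [hb, cond_true] at hall
    exact Or.inl (key rep0 h0.1 hall)

/-- An element of `M24` moves some point outside any set of at most three given points, unless it
is trivial. -/
theorem exists_moved_off {g : Equiv.Perm GolayPt} (hg : g ∈ M24) (hne : g ≠ 1)
    (A : Finset GolayPt) (hA : A.card ≤ 3) : ∃ c, c ∉ A ∧ g c ≠ c := by
  by_contra hcon
  push Not at hcon
  obtain ⟨a, ha⟩ : ∃ a, g a ≠ a := by
    by_contra h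
    push Not at h
    exact hne (Equiv.ext h)
  -- move the seven base points off `A`
  obtain ⟨B, hAB, hB⟩ := Finset.exists_superset_card_eq (s := A) (n := 3) hA
    (by rw [Fintype.card_option, ZMod.card]; norm_num)
  obtain ⟨x, y, z, hxy, hxz, hyz, rfl⟩ := Finset.card_eq_three.mp hB
  haveI := H11.isMultiplyPretransitive_five
  haveI : MulAction.IsMultiplyPretransitive M24 GolayPt 3 :=
    MulAction.isMultiplyPretransitive_of_le (n := 5) (by norm_num)
      (by rw [Nat.card_eq_fintype_card, Fintype.card_option, ZMod.card]; norm_num)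
  let u : Fin 3 ↪ GolayPt := ⟨fun i => pt ([6, 8, 9].get ⟨i.val, i.isLt⟩), by decide +kernel⟩
  let v : Fin 3 ↪ GolayPt := ⟨fun i => [x, y, z].get ⟨i.val, i.isLt⟩, by
    intro i j h
    fin_cases i <;> fin_cases j <;> simp_all⟩
  obtain ⟨k, hk⟩ := MulAction.exists_smul_eq M24 u v
  have hk' : ∀ i : Fin 3, (k : Equiv.Perm GolayPt) (u i) = v i := fun i =>
    DFunLike.congr_fun hk i
  have hone := H11.eq_one_of_fix_base (g := (k : Equiv.Perm GolayPt)⁻¹ * g * k)
    (M24.mul_mem (M24.mul_mem (M24.inv_mem k.2) hg) k.2) fun w hw => ?_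
  · apply hne
    have : g = (k : Equiv.Perm GolayPt) * ((k : Equiv.Perm GolayPt)⁻¹ * g * k) *
        (k : Equiv.Perm GolayPt)⁻¹ := by group
    rw [this, hone, mul_one, mul_inv_cancel]
  · rw [Equiv.Perm.mul_apply, Equiv.Perm.mul_apply, Equiv.Perm.inv_eq_iff_eq]
    apply hcon
    intro hmem
    have hmem' := hAB hmem
    rw [show H11.m24Chain.map Prod.fst = [0, 1, 2, 3, 4, 7, 5] by decide +kernel] at hw
    have hall : ∀ i : Fin 3, pt w ≠ u i := by
      intro i e
      have hw' : w < 24 := by simp only [List.mem_cons, List.not_mem_nil, or_false] at hw; omega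
      have := congrArg idx e
      simp only [u, Function.Embedding.coeFn_mk] at this
      rw [idx_pt hw'] at this
      revert this
      simp only [List.mem_cons, List.not_mem_nil, or_false] at hw
      fin_cases i <;> rcases hw with rfl | rfl | rfl | rfl | rfl | rfl | rfl <;> decide
    simp only [Finset.mem_insert, Finset.mem_singleton] at hmem'
    rcases hmem' with h | h | h
    · exact hall 0 ((k : Equiv.Perm GolayPt).injective (h.trans (hk' 0).symm))
    · exact hall 1 ((k : Equiv.Perm GolayPt).injective (h.trans (hk' 1).symm))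
    · exact hall 2 ((k : Equiv.Perm GolayPt).injective (h.trans (hk' 2).symm))

theorem exists_five {a b c d e : GolayPt} (h : [a, b, c, d, e].Nodup) :
    ∃ k ∈ M24, k (pt 0) = a ∧ k (pt 1) = b ∧ k (pt 2) = c ∧ k (pt 3) = d ∧ k (pt 4) = e := by
  obtain ⟨k, hk, hm⟩ := H11.exists_map_base5 [a, b, c, d, e] rfl h
  simp only [H11.base5, List.map_cons, List.map_nil, List.cons.injEq, and_true] at hm
  exact ⟨k, hk, hm⟩

/-- Every involution of `M24` is conjugate to one of the two representatives. -/
theorem involution_class {g : Equiv.Perm GolayPt} (hg : g ∈ M24) (h2 : orderOf g = 2) :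
    ∃ k ∈ M24, g = k * permOf rep2A * k⁻¹ ∨ g = k * permOf rep2B * k⁻¹ := by
  have hne : g ≠ 1 := by intro h; rw [h, orderOf_one] at h2; omega
  have hgg : ∀ p, g (g p) = p := by
    intro p
    have := pow_orderOf_eq_one g
    rw [h2, sq] at this
    exact DFunLike.congr_fun this p
  obtain ⟨a, -, ha⟩ := exists_moved_off hg hne ∅ (by simp)
  obtain ⟨c, hc, hcm⟩ := exists_moved_off hg hne {a, g a} (le_trans Finset.card_le_two (by norm_num))
  simp only [Finset.mem_insert, Finset.mem_singleton, not_or] at hc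
  have hd1 : g c ≠ a := fun e => hc.2 (by rw [← e, hgg])
  have hd2 : g c ≠ g a := fun e => hc.1 (g.injective e)
  obtain ⟨e, he⟩ : ∃ e, e ∉ ({a, g a, c, g c} : Finset GolayPt) := by
    refine Finset.exists_mem_notMem_of_card_lt_card
      (s := ({a, g a, c, g c} : Finset GolayPt)) (t := Finset.univ) ?_ |>.imp fun _ h => h.2
    refine lt_of_le_of_lt Finset.card_le_four ?_
    rw [Finset.card_univ, Fintype.card_option, ZMod.card]
    norm_num
  simp only [Finset.mem_insert, Finset.mem_singleton, not_or] at he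
  obtain ⟨k, hk, k0, k1, k2, k3, k4⟩ := exists_five (a := a) (b := g a) (c := c) (d := g c) (e := e)
    (by simp [List.nodup_cons, ha.symm, Ne.symm hc.1, hd1.symm, Ne.symm he.1, Ne.symm hc.2,
      hd2.symm, hcm.symm, Ne.symm he.2.1, Ne.symm he.2.2.1, Ne.symm he.2.2.2])
  set g' := k⁻¹ * g * k with hg'
  have hgmem : g' ∈ M24 := M24.mul_mem (M24.mul_mem (M24.inv_mem hk) hg) hk
  have hpt : ∀ p q, g (k p) = k q → g' p = q := by
    intro p q h
    rw [hg', Equiv.Perm.mul_apply, Equiv.Perm.mul_apply, h, Equiv.Perm.inv_eq_iff_eq]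
  have i0 := hpt (pt 0) (pt 1) (by rw [k0, k1])
  have i1 := hpt (pt 1) (pt 0) (by rw [k0, k1, hgg])
  have i2 := hpt (pt 2) (pt 3) (by rw [k2, k3])
  have i3 := hpt (pt 3) (pt 2) (by rw [k2, k3, hgg])
  have hsq : ∀ p, g' (g' p) = p := by
    intro p
    rw [hg']
    simp [Equiv.Perm.mul_apply, hgg]
  have h4 : 4 ≤ idx (g' (pt 4)) := by
    by_contra hlt
    have hs := hsq (pt 4)
    rw [← pt_idx (g' (pt 4))] at hs
    obtain h | h | h | h : idx (g' (pt 4)) = 0 ∨ idx (g' (pt 4)) = 1 ∨ idx (g' (pt 4)) = 2 ∨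
        idx (g' (pt 4)) = 3 := by omega
    all_goals
      rw [h] at hs
      simp only [i0, i1, i2, i3] at hs
      exact absurd (pt_inj (by norm_num) (by norm_num) hs) (by norm_num)
  have hmem := scanList_complete (test := testSq) tupI_ok hgmem (k := idx (g' (pt 4))) (idx_lt _)
    (Nat.ble_eq.mpr h4) ?_ ?_
  · obtain ⟨hcov, hok⟩ := Bool.and_eq_true_iff.mp conj2_check
    obtain ⟨e', he', hee⟩ := List.mem_map.mp (memList_spec (allList_spec hcov _ hmem))
    obtain ⟨j, hj, hj'⟩ := conj_of_conjOK (rep_ok rep2A (by simp)) (rep_ok rep2B (by simp))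
      (by rw [hee]; exact isPerm_code g') (List.all_eq_true.mp hok e' he')
    rw [hee, permOf_code] at hj'
    have hgk : g = k * g' * k⁻¹ := by rw [hg']; group
    refine ⟨k * j, M24.mul_mem hk hj, hj'.imp (fun h => ?_) (fun h => ?_)⟩ <;>
      rw [hgk, h] <;> group
  · intro i hi
    rcases i with - | - | - | - | - | i
    · rw [i0, idx_pt (by norm_num)]; rfl
    · rw [i1, idx_pt (by norm_num)]; rfl
    · rw [i2, idx_pt (by norm_num)]; rfl
    · rw [i3, idx_pt (by norm_num)]; rfl
    · rfl
    · omega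
  · intro f hf
    have hall : ∀ i ∈ pts24, Nat.beq (f (f i)) i = true := by
      intro i hi
      rw [mem_pts24] at hi
      rw [Nat.beq_eq, hf i hi, hf _ (idx_lt _), pt_idx, hsq, idx_pt hi]
    exact allList_of_forall hall

/-- Every element of order 3 of `M24` is conjugate to one of the two representatives. -/
theorem order_three_class {g : Equiv.Perm GolayPt} (hg : g ∈ M24) (h3 : orderOf g = 3) :
    ∃ k ∈ M24, g = k * permOf rep3A * k⁻¹ ∨ g = k * permOf rep3B * k⁻¹ := by
  have hne : g ≠ 1 := by intro h; rw [h, orderOf_one] at h3; omega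
  have hggg : ∀ p, g (g (g p)) = p := by
    intro p
    have := pow_orderOf_eq_one g
    rw [h3, pow_succ, pow_two] at this
    exact DFunLike.congr_fun this p
  obtain ⟨a, -, ha⟩ := exists_moved_off hg hne ∅ (by simp)
  have hb : g (g a) ≠ a := fun e => ha (by
    have := hggg a
    rwa [e] at this)
  obtain ⟨d, hd, hdm⟩ := exists_moved_off hg hne {a, g a, g (g a)}
    Finset.card_le_three
  simp only [Finset.mem_insert, Finset.mem_singleton, not_or] at hd
  have e1 : g d ≠ a := fun e => hd.2.2 (by rw [← e, hggg])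
  have e2 : g d ≠ g a := fun e => hd.1 (g.injective e)
  have e3 : g d ≠ g (g a) := fun e => hd.2.1 (g.injective e)
  obtain ⟨k, hk, k0, k1, k2, k3, k4⟩ := exists_five (a := a) (b := g a) (c := g (g a)) (d := d)
    (e := g d)
    (by simp [List.nodup_cons, ha.symm, hb.symm, Ne.symm hd.1, e1.symm, Ne.symm hd.2.1, e2.symm,
      Ne.symm hd.2.2, e3.symm, hdm.symm, fun e => ha (g.injective e).symm])
  set g' := k⁻¹ * g * k with hg'
  have hgmem : g' ∈ M24 := M24.mul_mem (M24.mul_mem (M24.inv_mem hk) hg) hk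
  have hpt : ∀ p q, g (k p) = k q → g' p = q := by
    intro p q h
    rw [hg', Equiv.Perm.mul_apply, Equiv.Perm.mul_apply, h, Equiv.Perm.inv_eq_iff_eq]
  have i0 := hpt (pt 0) (pt 1) (by rw [k0, k1])
  have i1 := hpt (pt 1) (pt 2) (by rw [k1, k2])
  have i2 := hpt (pt 2) (pt 0) (by rw [k2, k0, hggg])
  have i3 := hpt (pt 3) (pt 4) (by rw [k3, k4])
  have hcube : ∀ p, g' (g' (g' p)) = p := by
    intro p
    rw [hg']
    simp [Equiv.Perm.mul_apply, hggg]
  have hinj : ∀ j < 4, idx (g' (pt 4)) ≠ idx (g' (pt j)) := by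
    intro j hj e
    have := congrArg idx (g'.injective (idx_injective e))
    rw [idx_pt (by norm_num), idx_pt (by omega)] at this
    omega
  have hmem := scanList_complete (test := testCube) tupT_ok hgmem (k := idx (g' (pt 4))) (idx_lt _)
    ?_ ?_ ?_
  · obtain ⟨hcov, hok⟩ := Bool.and_eq_true_iff.mp conj3_check
    obtain ⟨e', he', hee⟩ := List.mem_map.mp (memList_spec (allList_spec hcov _ hmem))
    obtain ⟨j, hj, hj'⟩ := conj_of_conjOK (rep_ok rep3A (by simp)) (rep_ok rep3B (by simp))
      (by rw [hee]; exact isPerm_code g') (List.all_eq_true.mp hok e' he')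
    rw [hee, permOf_code] at hj'
    have hgk : g = k * g' * k⁻¹ := by rw [hg']; group
    refine ⟨k * j, M24.mul_mem hk hj, hj'.imp (fun h => ?_) (fun h => ?_)⟩ <;>
      rw [hgk, h] <;> group
  · have n0 := hinj 2 (by norm_num)
    have n1 := hinj 0 (by norm_num)
    have n2 := hinj 1 (by norm_num)
    have n4 := hinj 3 (by norm_num)
    rw [i2, idx_pt (by norm_num)] at n0
    rw [i0, idx_pt (by norm_num)] at n1
    rw [i1, idx_pt (by norm_num)] at n2
    rw [i3, idx_pt (by norm_num)] at n4
    rw [Bool.not_eq_true', ← Bool.not_eq_true]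
    intro h
    simp only [Bool.or_eq_true, Nat.beq_eq] at h
    omega
  · intro i hi
    rcases i with - | - | - | - | - | i
    · rw [i0, idx_pt (by norm_num)]; rfl
    · rw [i1, idx_pt (by norm_num)]; rfl
    · rw [i2, idx_pt (by norm_num)]; rfl
    · rw [i3, idx_pt (by norm_num)]; rfl
    · rfl
    · omega
  · intro f hf
    refine allList_of_forall fun i hi => ?_
    rw [mem_pts24] at hi
    rw [Nat.beq_eq, hf i hi, hf _ (idx_lt _), pt_idx, hf _ (idx_lt _), pt_idx, hcube, idx_pt hi]

end Cfsg.Agent.H12
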