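import Cfsg.Agent.H12.Classes
import Cfsg.Agent.H11.OctadStab

/-!
Subgroups of index 276 in `M24` are the stabilisers of pairs of points.
-/

set_option autoImplicit false

namespace Cfsg.Agent.H12

open MulAction
open scoped Pointwise

theorem fix5_pow_six : (fix5.all fun h =>
    Nat.beq (pmul h (pmul h (pmul h (pmul h (pmul h h))))) pone) = true := by
  decide +kernel

/-- An element of `M24` fixing five points has sixth power one. -/
theorem pow_six_of_five_fixed {g : Equiv.Perm GolayPt} (hg : g ∈ M24)
    (h : 5 ≤ (Finset.univ.filter fun x => g x = x).card) : g ^ 6 = 1 := by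
  classical
  obtain ⟨s, hs, hcard⟩ := Finset.exists_subset_card_eq h
  have hlen : s.toList.length = 5 := by rw [Finset.length_toList, hcard]
  obtain ⟨a, b, c, d, e, hl⟩ : ∃ a b c d e, s.toList = [a, b, c, d, e] := by
    match hm : s.toList, hlen with
    | [a, b, c, d, e], _ => exact ⟨a, b, c, d, e, rfl⟩
  have hnd : [a, b, c, d, e].Nodup := hl ▸ s.nodup_toList
  have hfix : ∀ x ∈ [a, b, c, d, e], g x = x := by
    intro x hx
    rw [← hl, Finset.mem_toList] at hx
    exact (Finset.mem_filter.mp (hs hx)).2
  simp only [List.forall_mem_cons, List.not_mem_nil, IsEmpty.forall_iff, implies_true,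
    and_true] at hfix
  obtain ⟨k, hk, k0, k1, k2, k3, k4⟩ := exists_five hnd
  obtain ⟨p, hp, he⟩ := fix5_complete (g := k⁻¹ * g * k)
    (M24.mul_mem (M24.mul_mem (M24.inv_mem hk) hg) hk) fun i hi => by
      obtain ⟨f0, f1, f2, f3, f4⟩ := hfix
      rw [Equiv.Perm.mul_apply, Equiv.Perm.mul_apply, Equiv.Perm.inv_eq_iff_eq]
      rcases i with - | - | - | - | - | i
      · rw [k0, f0]
      · rw [k1, f1]
      · rw [k2, f2]
      · rw [k3, f3]
      · rw [k4, f4]
      · omega
  have hp1 := (fix5_spec hp).1
  have h6 := List.all_eq_true.mp fix5_pow_six p hp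
  rw [Nat.beq_eq] at h6
  have hpow : permOf p ^ 6 = 1 := by
    have e2 := pmul_spec hp1 hp1
    have e3 := pmul_spec hp1 e2.1
    have e4 := pmul_spec hp1 e3.1
    have e5 := pmul_spec hp1 e4.1
    have e6 := pmul_spec hp1 e5.1
    rw [← pone_spec.2, ← h6, e6.2, e5.2, e4.2, e3.2, e2.2]
    simp only [pow_succ', pow_zero, mul_one]
  have hg' : g = k * permOf p * k⁻¹ := by rw [← he]; group
  rw [hg', conj_pow, hpow, mul_one, mul_inv_cancel]

/-- On an invariant set the moved points of an element of prime period come in multiples of it. -/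
theorem dvd_moved_card {α : Type*} [Fintype α] [DecidableEq α] {g : Equiv.Perm α} {p : ℕ}
    (hp : p.Prime) (hg : g ^ p = 1) {s : Finset α} (hs : ∀ x, g x ∈ s ↔ x ∈ s) :
    p ∣ (s.filter fun x => g x ≠ x).card := by
  classical
  haveI := Fact.mk hp
  have h1 : (g.subtypePerm hs) ^ p = 1 := by
    rw [Equiv.Perm.subtypePerm_pow]
    ext x
    simp [hg]
  have h2 : p ∣ (g.subtypePerm hs).support.card := by
    rw [← Equiv.Perm.sum_cycleType]
    exact Multiset.dvd_sum fun c hc => (Equiv.Perm.pow_prime_eq_one_iff.mp h1 c hc).symm ▸ dvd_rfl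
  have h3 : (g.subtypePerm hs).support.map (Function.Embedding.subtype fun x => x ∈ s) =
      s.filter fun x => g x ≠ x := by
    ext x
    simp [and_comm]
  rwa [← h3, Finset.card_map]

/-- The number of fixed points of elements of order 7 and 11. -/
theorem card_fixed_seven_eleven {g : Equiv.Perm GolayPt} (hg : g ∈ M24) :
    (orderOf g = 7 → (Finset.univ.filter fun x => g x = x).card = 3) ∧
      (orderOf g = 11 → (Finset.univ.filter fun x => g x = x).card = 2) := by
  classical
  have key : ∀ p : ℕ, p.Prime → 6 < p → orderOf g = p →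
      (Finset.univ.filter fun x => g x = x).card < 5 ∧
        p ∣ (Finset.univ.filter fun x => g x ≠ x).card := by
    intro p hp h6 ho
    refine ⟨?_, dvd_moved_card hp (ho ▸ pow_orderOf_eq_one g) fun x => by simp⟩
    by_contra h
    have := Nat.le_of_dvd (by norm_num) (orderOf_dvd_of_pow_eq_one
      (pow_six_of_five_fixed hg (by omega)))
    omega
  have hsum := Finset.card_filter_add_card_filter_not (s := (Finset.univ : Finset GolayPt))
    (fun x => g x = x)
  rw [Finset.card_univ, show Fintype.card GolayPt = 24 from rfl] at hsum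
  constructor <;> intro ho <;>
    obtain ⟨h5, k, hk⟩ := key _ (by norm_num) (by norm_num) ho <;>
    simp only [ne_eq] at hk <;> omega

/-- On an invariant set the fixed points count the points modulo the period. -/
theorem fixed_mod {g : Equiv.Perm GolayPt} {p : ℕ} (hp : p.Prime) (ho : orderOf g = p)
    {s : Finset GolayPt} (hs : ∀ x, g x ∈ s ↔ x ∈ s) :
    ∃ k, s.card = k * p + (s.filter fun x => g x = x).card := by
  obtain ⟨k, hk⟩ := dvd_moved_card hp (ho ▸ pow_orderOf_eq_one g) hs
  refine ⟨k, ?_⟩
  have h := Finset.card_filter_add_card_filter_not (s := s) (fun x => g x = x)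
  simp only [ne_eq] at hk
  rw [mul_comm]
  omega

theorem orbit_invariant {G α : Type*} [Group G] [MulAction G α] (g : G) (x y : α) :
    g • y ∈ MulAction.orbit G x ↔ y ∈ MulAction.orbit G x := by
  constructor <;> intro h
  · simpa using MulAction.mem_orbit_of_mem_orbit g⁻¹ h
  · exact MulAction.mem_orbit_of_mem_orbit g h

theorem card_stab_point (x : GolayPt) : Nat.card (stabilizer M24 x) = 10200960 := by
  haveI := H11.isMultiplyPretransitive_five
  have horb : MulAction.orbit M24 x = Set.univ := by
    rw [Set.eq_univ_iff_forall]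
    intro y
    haveI : MulAction.IsMultiplyPretransitive M24 GolayPt 1 :=
      MulAction.isMultiplyPretransitive_of_le (n := 5) (by norm_num)
        (by rw [Nat.card_eq_fintype_card, show Fintype.card GolayPt = 24 from rfl]; norm_num)
    haveI := MulAction.is_one_pretransitive_iff.mp this
    exact MulAction.exists_smul_eq M24 x y
  have h := H11.card_stabilizer_of_orbit x horb
    (n := 24) (by rw [Set.ncard_univ, Nat.card_eq_fintype_card]; rfl)
  omega

/-- The stabiliser of two points as a set. -/
theorem card_stab_duad {s : Finset GolayPt} (hs : s.card = 2) :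
    Nat.card (stabilizer M24 s) = 887040 := by
  classical
  have horb : MulAction.orbit M24 s = {t : Finset GolayPt | t.card = 2} := by
    ext t
    constructor
    · rintro ⟨g, rfl⟩
      show (g • s).card = 2
      rw [show g • s = (g : Equiv.Perm GolayPt) • s from rfl, Finset.card_smul_finset, hs]
    · intro ht
      obtain ⟨a, b, hab, rfl⟩ := Finset.card_eq_two.mp hs
      obtain ⟨c, d, hcd, rfl⟩ := Finset.card_eq_two.mp ht
      haveI := H11.isMultiplyPretransitive_five
      haveI : MulAction.IsMultiplyPretransitive M24 GolayPt 2 :=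
        MulAction.isMultiplyPretransitive_of_le (n := 5) (by norm_num)
          (by rw [Nat.card_eq_fintype_card, show Fintype.card GolayPt = 24 from rfl]; norm_num)
      obtain ⟨g, hg1, hg2⟩ := MulAction.is_two_pretransitive_iff.mp this hab hcd
      refine ⟨g, ?_⟩
      show (g : Equiv.Perm GolayPt) • ({a, b} : Finset GolayPt) = {c, d}
      rw [Finset.smul_finset_insert, Finset.smul_finset_singleton]
      rw [show (g : Equiv.Perm GolayPt) • a = c from hg1, show (g : Equiv.Perm GolayPt) • b = d from hg2]
  have hcard : {t : Finset GolayPt | t.card = 2}.ncard = 276 := by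
    rw [show {t : Finset GolayPt | t.card = 2} = ↑((Finset.univ : Finset GolayPt).powersetCard 2) by
      ext t; simp, Set.ncard_coe_finset, Finset.card_powersetCard, Finset.card_univ,
      show Fintype.card GolayPt = 24 from rfl]
    decide
  have h := H11.card_stabilizer_of_orbit s horb hcard
  omega

/-- Subgroups of index 276 are duad stabilisers. -/
theorem index_276_subgroups (H : Subgroup M24) (hi : H.index = 276) :
    ∃ s : Finset GolayPt, s.card = 2 ∧ H = stabilizer M24 s := by
  classical
  have hH : Nat.card H = 887040 := by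
    have := H.card_mul_index
    rw [hi, H11.card_M24] at this
    omega
  let O : GolayPt → Finset GolayPt := fun x => Finset.univ.filter fun y => y ∈ MulAction.orbit H x
  have horb : ∀ x, (O x).card * Nat.card (stabilizer H x) = 887040 := by
    intro x
    have h := (stabilizer H x).card_mul_index
    rw [index_stabilizer, hH, mul_comm] at h
    rw [← h]
    congr 1
    rw [← Set.ncard_coe_finset]
    simp [O]
  have hdvd : ∀ x : GolayPt, Nat.card (stabilizer H x) ∣ 10200960 := by
    intro x
    rw [← card_stab_point x]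
    exact Subgroup.card_dvd_of_injective
      ({ toFun := fun g => ⟨(g.1 : M24), g.2⟩
         map_one' := rfl
         map_mul' := fun _ _ => rfl } : stabilizer H x →* stabilizer M24 x)
      (fun a b h => Subtype.ext (Subtype.ext (congrArg (fun t => (t.1 : M24)) h)))
  have heven : ∀ x, 2 ∣ (O x).card := by
    intro x
    by_contra hodd
    have hc : Nat.Coprime (2 ^ 8) (O x).card :=
      ((Nat.prime_two.coprime_iff_not_dvd).mpr hodd).pow_left 8
    have h1 : 2 ^ 8 ∣ Nat.card (stabilizer H x) :=
      hc.dvd_of_dvd_mul_left (by rw [horb x]; norm_num)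
    have h2 := h1.trans (hdvd x)
    norm_num at h2
  have hinv : ∀ x, ∀ g ∈ H, ∀ y, (g : Equiv.Perm GolayPt) y ∈ O x ↔ y ∈ O x := by
    intro x g hg y
    simp only [O, Finset.mem_filter, Finset.mem_univ, true_and]
    exact orbit_invariant (⟨g, hg⟩ : H) x y
  have hsmall : ∀ x, 1 ≤ (O x).card := fun x =>
    Finset.card_pos.mpr ⟨x, by simp [O]⟩
  haveI : Fact (Nat.Prime 11) := ⟨by norm_num⟩
  haveI : Fact (Nat.Prime 7) := ⟨by norm_num⟩
  obtain ⟨σ, hσ⟩ := exists_prime_orderOf_dvd_card' (G := H) 11 (by rw [hH]; norm_num)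
  obtain ⟨τ, hτ⟩ := exists_prime_orderOf_dvd_card' (G := H) 7 (by rw [hH]; norm_num)
  have hσ' : orderOf ((σ : M24) : Equiv.Perm GolayPt) = 11 := by simpa using hσ
  have hτ' : orderOf ((τ : M24) : Equiv.Perm GolayPt) = 7 := by simpa using hτ
  have fσ := (card_fixed_seven_eleven (σ : M24).2).2 hσ'
  have fτ := (card_fixed_seven_eleven (τ : M24).2).1 hτ'
  have hsz : ∀ x, (O x).card = 2 ∨ (O x).card = 22 ∨ (O x).card = 24 := by
    intro x
    obtain ⟨a, ha⟩ := fixed_mod (by norm_num : Nat.Prime 11) hσ' (hinv x _ σ.2)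
    obtain ⟨b, hb⟩ := fixed_mod (by norm_num : Nat.Prime 7) hτ' (hinv x _ τ.2)
    have h1 := Finset.card_le_card (Finset.filter_subset_filter
      (fun y => ((σ : M24) : Equiv.Perm GolayPt) y = y) (Finset.subset_univ (O x)))
    have h2 := Finset.card_le_card (Finset.filter_subset_filter
      (fun y => ((τ : M24) : Equiv.Perm GolayPt) y = y) (Finset.subset_univ (O x)))
    have h3 : (O x).card ≤ 24 := Finset.card_le_univ _
    obtain ⟨m, hm⟩ := heven x
    have h4 := hsmall x
    have h5 : a ≤ 2 := by omega
    interval_cases a <;> omega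
  -- a set of two points fixed by `H`
  have finish : ∀ s : Finset GolayPt, s.card = 2 →
      (∀ g ∈ H, ∀ y, (g : Equiv.Perm GolayPt) y ∈ s ↔ y ∈ s) → H = stabilizer M24 s := by
    intro s hs hsi
    refine Subgroup.eq_of_le_of_card_ge (fun g hg => ?_) (by rw [hH, card_stab_duad hs])
    rw [mem_stabilizer_iff]
    show (g : Equiv.Perm GolayPt) • s = s
    refine Finset.eq_of_subset_of_card_le (fun y hy => ?_) (by rw [Finset.card_smul_finset])
    obtain ⟨z, hz, rfl⟩ := Finset.mem_smul_finset.mp hy
    exact (hsi g hg z).mpr hz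
  by_cases h2 : ∃ x, (O x).card = 2
  · obtain ⟨x, hx⟩ := h2
    exact ⟨_, hx, finish _ hx (hinv x)⟩
  by_cases h22 : ∃ x, (O x).card = 22
  · obtain ⟨x, hx⟩ := h22
    have hc : (O x)ᶜ.card = 2 := by
      rw [Finset.card_compl, hx, show Fintype.card GolayPt = 24 from rfl]
    exact ⟨_, hc, finish _ hc fun g hg y => by simp [hinv x g hg y]⟩
  push Not at h2 h22
  exfalso
  -- the transitive case
  have h24 : ∀ x, (O x).card = 24 := fun x => ((hsz x).resolve_left (h2 x)).resolve_left (h22 x)
  have htr : ∀ x y, ∃ g : H, ((g : M24) : Equiv.Perm GolayPt) x = y := by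
    intro x y
    have : O x = Finset.univ := Finset.eq_univ_of_card _ (by rw [h24 x]; rfl)
    have hy : y ∈ O x := by rw [this]; exact Finset.mem_univ y
    exact (Finset.mem_filter.mp hy).2
  have hcx : ∀ x : GolayPt, Nat.card (stabilizer H x) = 36960 := fun x => by
    have := horb x; rw [h24 x] at this; omega
  obtain ⟨x, y, hxy, hfs⟩ := Finset.card_eq_two.mp fσ
  have hsfix : ∀ z, ((σ : M24) : Equiv.Perm GolayPt) z = z ↔ z = x ∨ z = y := fun z => by
    have h := Finset.ext_iff.mp hfs z
    simpa using h
  have hσx : σ ∈ stabilizer H x := (hsfix x).mpr (Or.inl rfl)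
  obtain ⟨ρ, hρ⟩ := exists_prime_orderOf_dvd_card' (G := stabilizer H x) 7 (by rw [hcx x]; norm_num)
  have hρ' : orderOf (((ρ : H) : M24) : Equiv.Perm GolayPt) = 7 := by simpa using hρ
  have fρ := (card_fixed_seven_eleven ((ρ : H) : M24).2).1 hρ'
  -- the stabiliser of `x` fixes `y`
  have hxfix : ∀ h ∈ stabilizer H x, ((h : M24) : Equiv.Perm GolayPt) y = y := by
    let Y : Finset GolayPt := Finset.univ.filter fun z => z ∈ MulAction.orbit (stabilizer H x) y
    have hYi : ∀ g ∈ stabilizer H x, ∀ z, ((g : M24) : Equiv.Perm GolayPt) z ∈ Y ↔ z ∈ Y := by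
      intro g hg z
      simp only [Y, Finset.mem_filter, Finset.mem_univ, true_and]
      exact orbit_invariant (⟨g, hg⟩ : stabilizer H x) y z
    have hxY : x ∉ Y := by
      simp only [Y, Finset.mem_filter, Finset.mem_univ, true_and]
      rintro ⟨g, hg⟩
      have hgx : ((g : H) : M24).1 x = x := g.2
      exact hxy (((g : H) : M24).1.injective (hgx.trans hg.symm))
    obtain ⟨a, ha⟩ := fixed_mod (by norm_num : Nat.Prime 11) hσ' (hYi σ hσx)
    obtain ⟨b, hb⟩ := fixed_mod (by norm_num : Nat.Prime 7) hρ' (hYi _ ρ.2)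
    have hs1 : (Y.filter fun z => ((σ : M24) : Equiv.Perm GolayPt) z = z) = {y} := by
      ext z
      rw [Finset.mem_filter, hsfix, Finset.mem_singleton]
      constructor
      · rintro ⟨hz, rfl | rfl⟩
        · exact absurd hz hxY
        · rfl
      · rintro rfl
        exact ⟨by simp [Y], Or.inr rfl⟩
    rw [hs1, Finset.card_singleton] at ha
    have h2' : (Y.filter fun z => (((ρ : H) : M24) : Equiv.Perm GolayPt) z = z).card ≤ 2 := by
      have hlt := Finset.card_lt_card (s := Y.filter fun z => (((ρ : H) : M24) : Equiv.Perm GolayPt) z = z)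
        (t := Finset.univ.filter fun z => (((ρ : H) : M24) : Equiv.Perm GolayPt) z = z)
        ((Finset.ssubset_iff_of_subset
          (Finset.filter_subset_filter _ (Finset.subset_univ Y))).mpr
          ⟨x, Finset.mem_filter.mpr ⟨Finset.mem_univ x, ρ.2⟩,
            fun h => hxY (Finset.mem_filter.mp h).1⟩)
      omega
    have hY23 : Y.card ≤ 23 := by
      have := Finset.card_lt_univ_of_notMem hxY
      rw [show Fintype.card GolayPt = 24 from rfl] at this
      omega
    have hYd : Y.card ∣ 36960 := by
      rw [← hcx x, ← (stabilizer (stabilizer H x) y).card_mul_index, index_stabilizer]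
      refine dvd_mul_of_dvd_right (dvd_of_eq ?_) _
      rw [← Set.ncard_coe_finset]
      simp [Y]
    have hY1 : Y.card = 1 := by
      have : Y.card = 1 ∨ Y.card = 23 := by omega
      rcases this with h | h
      · exact h
      · rw [h] at hYd; norm_num at hYd
    obtain ⟨z, hz⟩ := Finset.card_eq_one.mp hY1
    intro h hh
    have hy : y ∈ Y := by simp [Y]
    have hy' := (hYi h hh y).mpr hy
    rw [hz, Finset.mem_singleton] at hy hy'
    exact hy'.trans hy.symm
  -- a third fixed point of `ρ`
  obtain ⟨z, hz, hzxy⟩ : ∃ z, (((ρ : H) : M24) : Equiv.Perm GolayPt) z = z ∧ z ≠ x ∧ z ≠ y := by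
    obtain ⟨z, hz, hzn⟩ := Finset.exists_mem_notMem_of_card_lt_card
      (s := ({x, y} : Finset GolayPt))
      (t := Finset.univ.filter fun z => (((ρ : H) : M24) : Equiv.Perm GolayPt) z = z)
      (by rw [fρ, Finset.card_pair hxy]; norm_num)
    simp only [Finset.mem_insert, Finset.mem_singleton, not_or] at hzn
    exact ⟨z, (Finset.mem_filter.mp hz).2, hzn⟩
  -- the only fixed points of a point stabiliser are the point and one more
  have hfixed : ∀ w, (∀ h ∈ stabilizer H x, ((h : M24) : Equiv.Perm GolayPt) w = w) → w = x ∨ w = y :=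
    fun w hw => (hsfix w).mp (hw σ hσx)
  have heqs : ∀ u v : GolayPt, stabilizer H u ≤ stabilizer H v → stabilizer H u = stabilizer H v :=
    fun u v h => Subgroup.eq_of_le_of_card_ge h (by rw [hcx u, hcx v])
  obtain ⟨g, hg⟩ := htr x z
  set w := ((g : M24) : Equiv.Perm GolayPt) y with hw
  have hzw : stabilizer H z ≤ stabilizer H w := by
    intro h hh
    have hc : g⁻¹ * h * g ∈ stabilizer H x := by
      rw [mem_stabilizer_iff]
      show (((g⁻¹ * h * g : H) : M24) : Equiv.Perm GolayPt) x = x
      have hh' : ((h : M24) : Equiv.Perm GolayPt) z = z := hh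
      push_cast
      simp only [Function.comp_apply]
      rw [hg, hh', Equiv.Perm.inv_eq_iff_eq, hg]
    have := hxfix _ hc
    push_cast at this
    simp only [Function.comp_apply] at this
    rw [Equiv.Perm.inv_eq_iff_eq] at this
    exact this
  have hρz : (ρ : H) ∈ stabilizer H z := hz
  have hρw : (((ρ : H) : M24) : Equiv.Perm GolayPt) w = w := hzw hρz
  have hwxy : w = x ∨ w = y := by
    by_contra hcon
    push Not at hcon
    have hsub : ({x, y, z, w} : Finset GolayPt) ⊆
        Finset.univ.filter fun u => (((ρ : H) : M24) : Equiv.Perm GolayPt) u = u := by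
      intro u hu
      simp only [Finset.mem_insert, Finset.mem_singleton] at hu
      refine Finset.mem_filter.mpr ⟨Finset.mem_univ u, ?_⟩
      rcases hu with rfl | rfl | rfl | rfl
      exacts [ρ.2, hxfix _ ρ.2, hz, hρw]
    have hne : z ≠ w := fun e =>
      hxy (((g : M24) : Equiv.Perm GolayPt).injective (hg.trans (e.trans hw)))
    have h4 : ({x, y, z, w} : Finset GolayPt).card = 4 := by
      rw [Finset.card_eq_succ]
      refine ⟨x, {y, z, w}, by simp [hxy, Ne.symm hzxy.1, Ne.symm hcon.1], rfl, ?_⟩
      rw [Finset.card_eq_three]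
      exact ⟨y, z, w, Ne.symm hzxy.2, Ne.symm hcon.2, hne, rfl⟩
    have := Finset.card_le_card hsub
    omega
  have hxy' : stabilizer H x = stabilizer H y := heqs x y fun h hh => hxfix h hh
  have hzx : stabilizer H z = stabilizer H x := by
    rcases hwxy with e | e <;> rw [e] at hzw
    · exact heqs z x hzw
    · exact (heqs z y hzw).trans hxy'.symm
  rcases hfixed z (fun h hh => (hzx ▸ hh : h ∈ stabilizer H z)) with e | e
  · exact hzxy.1 e
  · exact hzxy.2 e

end Cfsg.Agent.H12
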