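import Cfsg.Agent.H12.Code
import Cfsg.Agent.H12.Tables

/-!
Complete enumerations of the octads (759), dodecads (2576), trios (3795) and sextets (1771).
-/

set_option autoImplicit false

namespace Cfsg.Agent.H12

open scoped Pointwise

/-- The `i`th octad (`i < 759`), as a mask. -/
noncomputable def octMask (i : ℕ) : ℕ := tblGet 24 octTbl i

/-- The position of an octad mask. -/
noncomputable def octIdx (m : ℕ) : ℕ := tblGet 10 octInvTbl (m &&& 4095)

/-- The `i`th dodecad (`i < 2576`), as a mask. -/
noncomputable def dodMask (i : ℕ) : ℕ := tblGet 24 dodTbl i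

/-- The position of a dodecad mask. -/
noncomputable def dodIdx (m : ℕ) : ℕ := tblGet 12 dodInvTbl (m &&& 4095)

theorem octMask_check : (allBelow 10 759 fun i =>
    forceNat (octMask i) fun m =>
      isOctad m && Nat.beq (octIdx m) i &&
        Nat.beq (Nat.land m 1) (cond (Nat.blt i 253) 1 0)) = true := by
  decide +kernel

theorem codeWord_oct_check : (allBelow 12 4096 fun i =>
    forceNat (codeWord i) fun m =>
      !(Nat.beq (pop m) 8) ||
        forceNat (octIdx m) fun j => Nat.blt j 759 && Nat.beq (octMask j) m) = true := by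
  decide +kernel

theorem dodMask_check : (allBelow 12 2576 fun i =>
    forceNat (dodMask i) fun m => isDodecad m && Nat.beq (dodIdx m) i) = true := by
  decide +kernel

theorem codeWord_dod_check : (allBelow 12 4096 fun i =>
    forceNat (codeWord i) fun m =>
      !(Nat.beq (pop m) 12) ||
        forceNat (dodIdx m) fun j => Nat.blt j 2576 && Nat.beq (dodMask j) m) = true := by
  decide +kernel

theorem octMask_facts {i : ℕ} (hi : i < 759) : isOctad (octMask i) = true ∧
    octIdx (octMask i) = i ∧ ((octMask i).testBit 0 = true ↔ i < 253) := by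
  have h := allBelow_spec octMask_check hi
  simp only [forceNat_eq, Bool.and_eq_true, Nat.beq_eq] at h
  refine ⟨h.1.1, h.1.2, ?_⟩
  have h2 : octMask i &&& 1 = cond (Nat.blt i 253) 1 0 := h.2
  rw [Nat.testBit_zero, decide_eq_true_eq, ← Nat.and_one_is_mod, h2]
  cases hb : Nat.blt i 253
  · have : ¬ i < 253 := fun hh => by
      rw [(Nat.blt_eq).symm.to_iff] at hh
      simp [hb] at hh
    simp [this]
  · have : i < 253 := (Nat.blt_eq).to_iff.mp hb
    simp [this]

theorem isOctad_octMask {i : ℕ} (hi : i < 759) : isOctad (octMask i) = true :=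
  (octMask_facts hi).1

theorem octMask_lt {i : ℕ} (hi : i < 759) : octMask i < 2 ^ 24 := by
  have h := isOctad_octMask hi
  rw [isOctad, Bool.and_eq_true] at h
  exact isCode_lt h.1

theorem octIdx_octMask {i : ℕ} (hi : i < 759) : octIdx (octMask i) = i :=
  (octMask_facts hi).2.1

theorem octMask_testBit_zero {i : ℕ} (hi : i < 759) :
    (octMask i).testBit 0 = true ↔ i < 253 :=
  (octMask_facts hi).2.2

theorem octIdx_spec {m : ℕ} (h : isOctad m = true) :
    octIdx m < 759 ∧ octMask (octIdx m) = m := by
  rw [isOctad, Bool.and_eq_true, beq_iff_eq] at h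
  obtain ⟨hc, hp⟩ := h
  rw [isCode_def, beq_iff_eq] at hc
  have h2 := allBelow_spec codeWord_oct_check (i := m &&& 4095)
    (Nat.lt_succ_of_le Nat.and_le_right)
  simp only [forceNat_eq, hc, hp, Nat.beq_refl, Bool.not_true, Bool.false_or, Bool.and_eq_true,
    Nat.beq_eq, Nat.blt_eq] at h2
  exact h2

/-- The `i`th octad. -/
noncomputable def octSet (i : ℕ) : Finset GolayPt := fin (octMask i)

theorem octSet_mem {i : ℕ} (hi : i < 759) : octSet i ∈ octads :=
  (fin_mem_octads (octMask_lt hi)).mpr (isOctad_octMask hi)

theorem octSet_injOn : Set.InjOn octSet (Set.Iio 759) := by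
  intro i hi j hj h
  rw [← octIdx_octMask hi, fin_inj (octMask_lt hi) (octMask_lt hj) h, octIdx_octMask hj]

theorem octads_eq : octads = octSet '' Set.Iio 759 := by
  ext s
  constructor
  · intro h
    rw [mem_octads_iff] at h
    obtain ⟨h1, h2⟩ := octIdx_spec h
    exact ⟨_, h1, by rw [octSet, h2, fin_mask]⟩
  · rintro ⟨i, hi, rfl⟩
    exact octSet_mem hi

theorem octads_ncard : octads.ncard = 759 := by
  rw [octads_eq, Set.InjOn.ncard_image octSet_injOn, Set.ncard_Iio_nat]

theorem dodMask_facts {i : ℕ} (hi : i < 2576) :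
    isDodecad (dodMask i) = true ∧ dodIdx (dodMask i) = i := by
  have h := allBelow_spec dodMask_check hi
  simp only [forceNat_eq, Bool.and_eq_true, Nat.beq_eq] at h
  exact h

theorem isDodecad_dodMask {i : ℕ} (hi : i < 2576) : isDodecad (dodMask i) = true :=
  (dodMask_facts hi).1

theorem dodMask_lt {i : ℕ} (hi : i < 2576) : dodMask i < 2 ^ 24 := by
  have h := isDodecad_dodMask hi
  rw [isDodecad, Bool.and_eq_true] at h
  exact isCode_lt h.1

theorem dodIdx_dodMask {i : ℕ} (hi : i < 2576) : dodIdx (dodMask i) = i :=
  (dodMask_facts hi).2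

theorem dodIdx_spec {m : ℕ} (h : isDodecad m = true) :
    dodIdx m < 2576 ∧ dodMask (dodIdx m) = m := by
  rw [isDodecad, Bool.and_eq_true, beq_iff_eq] at h
  obtain ⟨hc, hp⟩ := h
  rw [isCode_def, beq_iff_eq] at hc
  have h2 := allBelow_spec codeWord_dod_check (i := m &&& 4095)
    (Nat.lt_succ_of_le Nat.and_le_right)
  simp only [forceNat_eq, hc, hp, Nat.beq_refl, Bool.not_true, Bool.false_or, Bool.and_eq_true,
    Nat.beq_eq, Nat.blt_eq] at h2
  exact h2

/-- The `i`th dodecad. -/
noncomputable def dodSet (i : ℕ) : Finset GolayPt := fin (dodMask i)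

theorem dodSet_mem {i : ℕ} (hi : i < 2576) : dodSet i ∈ dodecads :=
  (fin_mem_dodecads (dodMask_lt hi)).mpr (isDodecad_dodMask hi)

theorem dodSet_injOn : Set.InjOn dodSet (Set.Iio 2576) := by
  intro i hi j hj h
  rw [← dodIdx_dodMask hi, fin_inj (dodMask_lt hi) (dodMask_lt hj) h, dodIdx_dodMask hj]

theorem dodecads_eq : dodecads = dodSet '' Set.Iio 2576 := by
  ext s
  constructor
  · intro h
    rw [mem_dodecads_iff] at h
    obtain ⟨h1, h2⟩ := dodIdx_spec h
    exact ⟨_, h1, by rw [dodSet, h2, fin_mask]⟩
  · rintro ⟨i, hi, rfl⟩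
    exact dodSet_mem hi

/-! ### Trios -/

/-- The first octad of the `k`th trio, as a mask; it contains point 0. -/
noncomputable def trioA (k : ℕ) : ℕ := octMask (Nat.land (tblGet 30 trioTbl k) 1023)

/-- The second octad of the `k`th trio, as a mask. -/
noncomputable def trioB (k : ℕ) : ℕ := octMask (Nat.land (Nat.shiftRight (tblGet 30 trioTbl k) 10) 1023)

/-- The third octad of the `k`th trio, as a mask. -/
noncomputable def trioC (k : ℕ) : ℕ := octMask (Nat.land (Nat.shiftRight (tblGet 30 trioTbl k) 20) 1023)

/-- The `k`th trio (`k < 3795`). -/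
noncomputable def trioSet (k : ℕ) : Finset (Finset GolayPt) := {fin (trioA k), fin (trioB k), fin (trioC k)}

theorem trio_check : (allBelow 12 3795 fun k =>
    forceNat (trioA k) fun a => forceNat (trioB k) fun b => forceNat (trioC k) fun c =>
      isOctad a && isOctad b && isOctad c &&
      Nat.beq (Nat.land a b) 0 && Nat.beq (Nat.land a c) 0 && Nat.beq (Nat.land b c) 0 &&
      Nat.beq (Nat.land a 1) 1 && Nat.beq a (octMask (Nat.div k 15)) && Nat.blt b c &&
      (Nat.beq (Nat.mod k 15) 0 || Nat.blt (trioB (Nat.sub k 1)) b)) = true := by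
  decide +kernel

/-- The octads as a literal list. -/
def octList : List ℕ := [5279, 15777, 18147, 39257, 45159, 52005, 57883, 69395,
  75309, 95313, 99029, 118953, 133817, 140167, 153797, 175681,
  185603, 201013, 210955, 213833, 262637, 272595, 283537, 298027,
  304405, 334433, 346141, 352547, 418953, 430605, 442481, 459847,
  493953, 530245, 542009, 551943, 563843, 582081, 593097, 622863,
  632881, 657763, 663645, 684577, 689317, 737427, 786999, 797449,
  806987, 864389, 902657, 924689, 1053483, 1063445, 1065303, 1075305,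
  1100945, 1116327, 1122713, 1148257, 1182989, 1188915, 1212619, 1250945,
  1302533, 1312345, 1332261, 1352353, 1413139, 1454401, 1460739, 1577201,
  1589901, 1618953, 1647171, 1661185, 1737489, 1836419, 1869893, 2031657,
  2110153, 2115979, 2121909, 2135601, 2147405, 2162811, 2173253, 2183687,
  2204803, 2229713, 2263063, 2269481, 2313249, 2363013, 2392899, 2422785,
  2430217, 2494627, 2564625, 2627629, 2634003, 2640465, 2687905, 2754059,
  2854977, 2892897, 2916505, 3031301, 3152963, 3172097, 3182981, 3246601,
  3277413, 3297305, 3410225, 3416079, 3489985, 3719203, 3736597, 3811457,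
  4196943, 4203377, 4216883, 4223245, 4229001, 4264387, 4287105, 4299781,
  4330601, 4343317, 4370577, 4424227, 4470275, 4476225, 4505735, 4523185,
  4563017, 4587803, 4597797, 4721045, 4726955, 4752467, 4788761, 4800613,
  4900873, 4924673, 5017889, 5112513, 5252293, 5275709, 5286147, 5296705,
  5325835, 5390753, 5441617, 5511305, 5571333, 5770785, 5902343, 6053905,
  6292775, 6302745, 6326497, 6406417, 6429441, 6447171, 6488205, 6557781,
  6570537, 6837377, 6857221, 7145475, 7340691, 7417889, 7767041, 7864649,
  8391797, 8398155, 8412681, 8421811, 8431757, 8471941, 8499969, 8505411,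
  8524371, 8536111, 8546577, 8593633, 8619033, 8657159, 8663097, 8675909,
  8688833, 8716939, 8783649, 8922769, 8946281, 8966165, 8983587, 9048457,
  9112069, 9193633, 9240913, 9347075, 9440193, 9465987, 9471495, 9506893,
  9519665, 9607201, 9748745, 9776129, 9830549, 9963547, 9969957, 10110017,
  10486557, 10496547, 10506593, 10557585, 10630149, 10666625, 10765331, 10846245,
  10881097, 11010247, 11046145, 11100169, 11535529, 11575377, 11731203, 12325377,
  12587685, 12599513, 12641313, 12650793, 12656663, 12717187, 12747077, 12880401,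
  13062145, 13121601, 13124355, 13370381, 13636881, 13771273, 13893731, 14254209,
  14716939, 14747201, 14950785, 15335473, 15747077, 10558, 21116, 31554,
  36294, 42232, 63108, 72588, 78514, 84464, 90318, 104010,
  115766, 126216, 138790, 145176, 150618, 157028, 168928, 180636,
  190626, 198058, 208020, 231532, 237906, 252432, 267634, 277580,
  280334, 290352, 301236, 307594, 314056, 337856, 351362, 361272,
  371206, 381252, 396116, 402026, 416040, 421910, 427666, 463064,
  475812, 504864, 525274, 535268, 545190, 555160, 560668, 567074,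
  580704, 596054, 602472, 608810, 615188, 628112, 668866, 675712,
  692282, 702724, 705094, 722544, 742412, 762504, 792232, 804052,
  832080, 837906, 843820, 855332, 861210, 884962, 919694, 926128,
  951624, 987906, 1009728, 1050548, 1060490, 1070536, 1084018, 1090380,
  1103886, 1110320, 1121336, 1127686, 1134148, 1161408, 1164162, 1186194,
  1192108, 1204944, 1217620, 1230376, 1245726, 1256224, 1265762, 1315526,
  1327290, 1337732, 1351424, 1369154, 1378634, 1384564, 1405448, 1410188,
  1445088, 1474854, 1484824, 1525008, 1573998, 1584464, 1594898, 1608104,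
  1613974, 1664160, 1675812, 1687640, 1710664, 1722420, 1728778, 1769924,
  1805314, 1839388, 1849378, 1852256, 1903248, 1975812, 2019456, 2101096,
  2106966, 2120980, 2126890, 2130606, 2141072, 2150610, 2168036, 2180760,
  2201890, 2207772, 2220640, 2232654, 2242672, 2245426, 2255372, 2268296,
  2296514, 2322816, 2328324, 2365978, 2372388, 2377830, 2384216, 2409888,
  2425238, 2435240, 2460752, 2491452, 2501890, 2512448, 2531524, 2605066,
  2624690, 2631052, 2654580, 2664522, 2675464, 2702848, 2704706, 2738308,
  2757268, 2769128, 2810896, 2820376, 2826278, 2890176, 2908802, 2921478,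
  2949708, 2969648, 3050016, 3147996, 3154402, 3168928, 3179802, 3189796,
  3216208, 3227948, 3237906, 3294342, 3322370, 3328320, 3351624, 3375280,
  3421328, 3444840, 3457556, 3474978, 3539848, 3610628, 3672838, 3678776,
  3698756, 3704512, 3739786, 3806496, 3951624, 4038912, 4063314, 4202192,
  4213932, 4220306, 4231958, 4241960, 4243818, 4253780, 4261212, 4271202,
  4282144, 4294810, 4301220, 4325622, 4336072, 4346506, 4361520, 4367374,
  4403780, 4409606, 4415544, 4441280, 4459426, 4465308, 4485344, 4490852,
  4510744, 4526126, 4536592, 4538962, 4593028, 4626498, 4645632, 4656648,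
  4726026, 4731956, 4744776, 4755660, 4768432, 4785798, 4819776, 4845570,
  4850476, 4860434, 4870480, 4921504, 4982904, 4989254, 5003780, 5024896,
  5063048, 5129250, 5210132, 5249380, 5255258, 5262104, 5268006, 5280930,
  5309160, 5329044, 5350928, 5375810, 5405696, 5409412, 5476616, 5508118,
  5514536, 5538256, 5621792, 5640752, 5652556, 5709954, 5780352, 5785794,
  5817604, 5833010, 5842956, 5899416, 5939296, 6062602, 6100032, 6295992,
  6305926, 6308804, 6337856, 6344194, 6359604, 6365962, 6379592, 6432416,
  6455896, 6475812, 6493202, 6554826, 6588684, 6594610, 6644740, 6656640,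
  6703248, 6750560, 6820450, 6832158, 6842656, 6889680, 6915112, 6949956,
  6979970, 7079696, 7221256, 7345676, 7357552, 7397512, 7409024, 7438406,
  7473194, 7479572, 7612992, 7622914, 7903248, 8077824, 8126628, 8394986,
  8401364, 8407702, 8414120, 8426796, 8436754, 8439632, 8455014, 8464984,
  8474906, 8484900, 8490656, 8521420, 8541360, 8555274, 8561204, 8581192,
  8592704, 8611330, 8622214, 8654232, 8660134, 8683614, 8694112, 8704546,
  8721940, 8733800, 8773776, 8796800, 8798658, 8834052, 8849458, 8855820,
  8919856, 8925710, 8931660, 8937586, 8963210, 8978620, 8989058, 8999616,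
  9020484, 9045270, 9055272, 9078992, 9158944, 9178690, 9204992, 9208708,
  9279496, 9310308, 9323032, 9451104, 9456930, 9462812, 9474712, 9486564,
  9503954, 9537812, 9543722, 9568632, 9578566, 9589508, 9610624, 9652360,
  9701932, 9708306, 9721936, 9769376, 9835530, 9929280, 9968772, 9998658,
  10021376, 10028808, 10093218, 10170384, 10232008, 10257456, 10305542, 10491778,
  10513600, 10525252, 10537016, 10543366, 10554382, 10560816, 10584520, 10619300,
  10625178, 10650722, 10687016, 10698836, 10748656, 10768524, 10790408, 10825794,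
  10832640, 10916112, 11015256, 11028004, 11055264, 11108882, 11150144, 11163650,
  11272490, 11282452, 11469952, 11538486, 11548936, 11551306, 11608708, 11654144,
  11669008, 11797828, 11831426, 11952160, 12075408, 12126304, 12222476, 12584506,
  12594948, 12604486, 12624578, 12638592, 12661896, 12685424, 12698124, 12720156,
  12726562, 12733024, 12780432, 12849992, 12861748, 12871690, 12912836, 12944642,
  12985424, 13009064, 13108704, 13142054, 13148440, 13192208, 13262980, 13276672,
  13303882, 13373586, 13443616, 13631886, 13641904, 13667400, 13703682, 13721920,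
  13811730, 13829156, 13911680, 13938692, 14156372, 14176296, 14551296, 14682450,
  14688364, 14709264, 14714004, 14762146, 14828808, 14919680, 14949408, 15073798,
  15207048, 15274244, 15515712, 15762208, 15864000, 16056344, 16262146]

theorem octList_check :
    (allBelow 10 759 fun i => Nat.beq (chunkGet octList i) (octMask i)) = true := by
  decide +kernel

theorem trio_complete_check : (allBelow 8 253 fun r =>
    forceNat (octMask r) fun o => allList octList fun x =>
      !(Nat.beq (Nat.land o x) 0) ||
        (List.range 15).any fun s =>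
          Nat.beq (trioB (Nat.add (Nat.mul 15 r) s)) x ||
            Nat.beq (trioC (Nat.add (Nat.mul 15 r) s)) x) = true := by
  decide +kernel

theorem chunkGet_mem : ∀ (l : List ℕ) (j : ℕ), j < l.length → chunkGet l j ∈ l := by
  intro l
  induction l with
  | nil => intro j hj; simp at hj
  | cons a l ih =>
    intro j hj
    cases j with
    | zero => exact List.mem_cons_self ..
    | succ j => exact List.mem_cons_of_mem _ (ih j (by simpa using hj))

theorem octMask_mem_octList {i : ℕ} (hi : i < 759) : octMask i ∈ octList := by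
  have h := allBelow_spec octList_check hi
  rw [Nat.beq_eq] at h
  rw [← h]
  exact chunkGet_mem _ _ (lt_of_lt_of_eq hi (by decide +kernel))

theorem trio_props {k : ℕ} (hk : k < 3795) :
    isOctad (trioA k) = true ∧ isOctad (trioB k) = true ∧ isOctad (trioC k) = true ∧
      trioA k &&& trioB k = 0 ∧ trioA k &&& trioC k = 0 ∧ trioB k &&& trioC k = 0 ∧
      (trioA k).testBit 0 = true ∧ trioA k = octMask (k / 15) ∧ trioB k < trioC k ∧
      (k % 15 = 0 ∨ trioB (k - 1) < trioB k) := by
  have h := allBelow_spec trio_check hk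
  simp only [forceNat_eq, Bool.and_eq_true, Bool.or_eq_true, Nat.beq_eq, Nat.blt_eq] at h
  obtain ⟨⟨⟨⟨⟨⟨⟨⟨⟨h1, h2⟩, h3⟩, h4⟩, h5⟩, h6⟩, h7⟩, h8⟩, h9⟩, h10⟩ := h
  refine ⟨h1, h2, h3, h4, h5, h6, ?_, h8, h9, h10⟩
  rw [Nat.testBit_zero, decide_eq_true_eq, ← Nat.and_one_is_mod]
  exact h7

theorem isOctad_lt {m : ℕ} (h : isOctad m = true) : m < 2 ^ 24 := by
  rw [isOctad, Bool.and_eq_true] at h
  exact isCode_lt h.1

theorem fin_card_of_isOctad {m : ℕ} (h : isOctad m = true) : (fin m).card = 8 := by
  rw [isOctad, Bool.and_eq_true, beq_iff_eq] at h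
  rw [card_fin]
  exact h.2

theorem trioSet_mem {k : ℕ} (hk : k < 3795) : trioSet k ∈ trios := by
  obtain ⟨ha, hb, hc, hab, hac, hbc, -⟩ := trio_props hk
  have hne : ∀ {x y : ℕ}, isOctad x = true → x &&& y = 0 → fin x ≠ fin y := by
    intro x y hx hxy he
    have h0 : (fin x ∩ fin y).card = 0 := by rw [← fin_land, hxy, fin_zero, Finset.card_empty]
    rw [← he, Finset.inter_self, fin_card_of_isOctad hx] at h0
    omega
  refine ⟨?_, ?_, ?_⟩
  · rw [trioSet, Finset.card_eq_three]
    exact ⟨_, _, _, hne ha hab, hne ha hac, hne hb hbc, rfl⟩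
  · intro o ho
    simp only [trioSet, Finset.mem_insert, Finset.mem_singleton] at ho
    rcases ho with rfl | rfl | rfl
    · exact (fin_mem_octads (isOctad_lt ha)).mpr ha
    · exact (fin_mem_octads (isOctad_lt hb)).mpr hb
    · exact (fin_mem_octads (isOctad_lt hc)).mpr hc
  · intro o ho o' ho' hoo
    simp only [trioSet, Finset.mem_insert, Finset.mem_singleton] at ho ho'
    rcases ho with rfl | rfl | rfl <;> rcases ho' with rfl | rfl | rfl <;>
      first
        | exact absurd rfl hoo
        | exact disjoint_fin hab
        | exact disjoint_fin hac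
        | exact disjoint_fin hbc
        | exact (disjoint_fin hab).symm
        | exact (disjoint_fin hac).symm
        | exact (disjoint_fin hbc).symm

/-- The members of a trio cover all points. -/
theorem trio_exists_mem {T : Finset (Finset GolayPt)} (hT : T ∈ trios) (p : GolayPt) :
    ∃ o ∈ T, p ∈ o := by
  obtain ⟨h1, h2, h3⟩ := hT
  have hcard : (T.biUnion id).card = 24 := by
    rw [Finset.card_biUnion (t := id) (fun x hx y hy hxy => h3 x hx y hy hxy)]
    simp only [id_eq]
    rw [Finset.sum_congr rfl (fun x hx => (h2 x hx).2), Finset.sum_const, h1]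
    rfl
  have huniv : T.biUnion id = Finset.univ := by
    apply Finset.eq_univ_of_card
    rw [hcard, Fintype.card_option, ZMod.card]
  have := Finset.mem_univ p
  rw [← huniv, Finset.mem_biUnion] at this
  exact this

/-- A trio is determined by two of its members. -/
theorem trio_ext {T T' : Finset (Finset GolayPt)} (hT : T ∈ trios) (hT' : T' ∈ trios)
    {a b : Finset GolayPt} (hab : a ≠ b) (ha : a ∈ T) (hb : b ∈ T) (ha' : a ∈ T') (hb' : b ∈ T') :
    T = T' := by
  have key : ∀ {S : Finset (Finset GolayPt)}, S ∈ trios → a ∈ S → b ∈ S →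
      S = {a, b, Finset.univ \ (a ∪ b)} := by
    intro S hS haS hbS
    obtain ⟨c, hc, hca, hcb⟩ : ∃ c ∈ S, c ≠ a ∧ c ≠ b := by
      by_contra hcon
      push Not at hcon
      have : S ⊆ {a, b} := by
        intro x hx
        by_cases hxa : x = a
        · simp [hxa]
        · simp [hcon x hx hxa]
      have h2 := Finset.card_le_card this
      have h3 : ({a, b} : Finset (Finset GolayPt)).card ≤ 2 := Finset.card_le_two
      have h4 := hS.1
      omega
    have hsub : S = {a, b, c} := by
      symm
      apply Finset.eq_of_subset_of_card_le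
      · simp [Finset.insert_subset_iff, haS, hbS, hc]
      · rw [hS.1, Finset.card_eq_three.mpr ⟨a, b, c, hab, hca.symm, hcb.symm, rfl⟩]
    have hcc : c = Finset.univ \ (a ∪ b) := by
      ext p
      simp only [Finset.mem_sdiff, Finset.mem_univ, Finset.mem_union, true_and, not_or]
      constructor
      · intro hp
        exact ⟨fun h => Finset.disjoint_left.mp (hS.2.2 c hc a haS hca) hp h,
          fun h => Finset.disjoint_left.mp (hS.2.2 c hc b hbS hcb) hp h⟩
      · rintro ⟨hpa, hpb⟩
        obtain ⟨o, ho, hpo⟩ := trio_exists_mem hS p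
        rw [hsub] at ho
        simp only [Finset.mem_insert, Finset.mem_singleton] at ho
        rcases ho with rfl | rfl | rfl
        exacts [absurd hpo hpa, absurd hpo hpb, hpo]
    rw [hsub, hcc]
  rw [key hT ha hb, key hT' ha' hb']

theorem trios_eq : trios = trioSet '' Set.Iio 3795 := by
  ext T
  constructor
  · intro hT
    obtain ⟨a, ha, hpa⟩ := trio_exists_mem hT (pt 0)
    obtain ⟨b, hb, hba⟩ : ∃ b ∈ T, b ≠ a := Finset.exists_mem_ne (by rw [hT.1]; norm_num) a
    obtain ⟨r, hr, rfl⟩ := octads_eq ▸ hT.2.1 a ha
    obtain ⟨j, hj, rfl⟩ := octads_eq ▸ hT.2.1 b hb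
    rw [Set.mem_Iio] at hr hj
    rw [octSet, pt_mem_fin (by norm_num), octMask_testBit_zero hr] at hpa
    have hd := hT.2.2 _ ha _ hb hba.symm
    rw [octSet, octSet, disjoint_fin_iff (octMask_lt hr)] at hd
    have h := allBelow_spec trio_complete_check hpa
    rw [forceNat_eq] at h
    have h2 := allList_spec h _ (octMask_mem_octList hj)
    have hd' : Nat.land (octMask r) (octMask j) = 0 := hd
    simp only [hd', Nat.beq_refl, Bool.not_true, Bool.false_or, List.any_eq_true] at h2
    obtain ⟨s, hs, h3⟩ := h2
    rw [List.mem_range] at hs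
    have hk : 15 * r + s < 3795 := by omega
    refine ⟨15 * r + s, hk, trio_ext (trioSet_mem hk) hT hba.symm ?_ ?_ ha hb⟩
    · obtain ⟨-, -, -, -, -, -, -, hA, -⟩ := trio_props hk
      rw [show (15 * r + s) / 15 = r by omega] at hA
      simp [trioSet, hA, octSet]
    · simp only [Bool.or_eq_true, Nat.beq_eq, Nat.add_eq, Nat.mul_eq] at h3
      rcases h3 with h3 | h3 <;> simp [trioSet, h3, octSet]
  · rintro ⟨k, hk, rfl⟩
    exact trioSet_mem hk

theorem trioSet_injOn : Set.InjOn trioSet (Set.Iio 3795) := by
  intro k hk l hl he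
  rw [Set.mem_Iio] at hk hl
  obtain ⟨ha, hb, hc, hab, hac, hbc, h0, hA, hlt, -⟩ := trio_props hk
  obtain ⟨ha', hb', hc', hab', hac', hbc', h0', hA', hlt', -⟩ := trio_props hl
  have hnot : ∀ {x y : ℕ}, x.testBit 0 = true → x &&& y = 0 → y.testBit 0 = false := by
    intro x y hx hxy
    have := congrArg (fun n => n.testBit 0) hxy
    simp only [Nat.testBit_and, hx, Bool.true_and, Nat.zero_testBit] at this
    exact this
  have conv : ∀ x, x < 2 ^ 24 → fin x ∈ trioSet l → x = trioA l ∨ x = trioB l ∨ x = trioC l := by
    intro x hx h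
    simp only [trioSet, Finset.mem_insert, Finset.mem_singleton] at h
    rcases h with h | h | h
    · exact Or.inl (fin_inj hx (isOctad_lt ha') h)
    · exact Or.inr (Or.inl (fin_inj hx (isOctad_lt hb') h))
    · exact Or.inr (Or.inr (fin_inj hx (isOctad_lt hc') h))
  have hAA : trioA k = trioA l := by
    rcases conv _ (isOctad_lt ha) (he ▸ by simp [trioSet]) with h | h | h
    · exact h
    · rw [h, hnot h0' hab'] at h0; exact absurd h0 (by simp)
    · rw [h, hnot h0' hac'] at h0; exact absurd h0 (by simp)
  have hneA : ∀ {x}, isOctad x = true → trioA k &&& x = 0 → x ≠ trioA l := by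
    intro x hx hx0 h
    rw [h, hAA, Nat.and_self] at hx0
    rw [hx0] at h0'
    simp at h0'
  have hBB : trioB k = trioB l := by
    rcases conv _ (isOctad_lt hb) (he ▸ by simp [trioSet]) with h | h | h
    · exact absurd h (hneA hb hab)
    · exact h
    · exfalso
      rcases conv _ (isOctad_lt hc) (he ▸ by simp [trioSet]) with h' | h' | h'
      · exact hneA hc hac h'
      · omega
      · omega
  -- same block, and the second members increase along a block
  have hr : k / 15 = l / 15 := by
    have h1 := octIdx_octMask (i := k / 15) (by omega)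
    rw [← hA, hAA, hA', octIdx_octMask (by omega)] at h1
    exact h1.symm
  have mono : ∀ i j, i / 15 = j / 15 → i < j → j < 3795 → trioB i < trioB j := by
    intro i j hij hlt hj
    induction j with
    | zero => omega
    | succ j ih =>
      obtain ⟨-, -, -, -, -, -, -, -, -, hs⟩ := trio_props hj
      rcases hs with hs | hs
      · omega
      · rw [Nat.add_sub_cancel] at hs
        rcases Nat.lt_or_ge i j with h | h
        · exact (ih (by omega) h (by omega)).trans hs
        · obtain rfl : i = j := by omega
          exact hs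
  rcases lt_trichotomy k l with h | h | h
  · exact absurd hBB (mono k l hr h hl).ne
  · exact h
  · exact absurd hBB.symm (mono l k hr.symm h hk).ne

theorem trios_ncard : trios.ncard = 3795 := by
  rw [trios_eq, Set.InjOn.ncard_image trioSet_injOn, Set.ncard_Iio_nat]

/-! ### Sextets -/

/-- The `k`th sextet as a list of masks. -/
noncomputable def sextList (k : ℕ) : List ℕ :=
  let e := tblGet 144 sextTbl k
  [Nat.land e 16777215, Nat.land (Nat.shiftRight e 24) 16777215,
    Nat.land (Nat.shiftRight e 48) 16777215, Nat.land (Nat.shiftRight e 72) 16777215,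
    Nat.land (Nat.shiftRight e 96) 16777215, Nat.land (Nat.shiftRight e 120) 16777215]

/-- The `k`th sextet (`k < 1771`). -/
noncomputable def sextSet (k : ℕ) : Finset (Finset GolayPt) := fins (sextList k)

/-- The head of the `k`th sextet: its tetrad through point 0. -/
noncomputable def sextHead (k : ℕ) : ℕ := Nat.land (tblGet 144 sextTbl k) 16777215

/-- Check on one list of masks: six tetrads, any two joining to an octad. -/
noncomputable def sextOK : List ℕ → Bool :=
  List.rec (motive := fun _ => Bool) true fun t l ih =>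
    Nat.beq (pop t) 4 && (l.all fun u => Nat.beq (Nat.land t u) 0 && isOctad (Nat.lor t u)) && ih

theorem sextOK_cons (t : ℕ) (l : List ℕ) : sextOK (t :: l) =
    (Nat.beq (pop t) 4 && (l.all fun u => Nat.beq (Nat.land t u) 0 && isOctad (Nat.lor t u)) &&
      sextOK l) := rfl

theorem sext_check : (allBelow 11 1771 fun k =>
    sextOK (sextList k) && Nat.beq (Nat.land (sextHead k) 1) 1 &&
      (Nat.beq k 0 || Nat.blt (sextHead (Nat.sub k 1)) (sextHead k))) = true := by
  decide +kernel

theorem sext_props {k : ℕ} (hk : k < 1771) :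
    sextOK (sextList k) = true ∧ (sextHead k).testBit 0 = true ∧
      (k = 0 ∨ sextHead (k - 1) < sextHead k) := by
  have h := allBelow_spec sext_check hk
  simp only [Bool.and_eq_true, Bool.or_eq_true, Nat.beq_eq, Nat.blt_eq] at h
  refine ⟨h.1.1, ?_, h.2⟩
  rw [Nat.testBit_zero, decide_eq_true_eq, ← Nat.and_one_is_mod]
  exact h.1.2

theorem sextList_lt {k m : ℕ} (hm : m ∈ sextList k) : m < 2 ^ 24 := by
  simp only [sextList, List.mem_cons, List.not_mem_nil, or_false] at hm
  rcases hm with rfl | rfl | rfl | rfl | rfl | rfl <;>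
    exact Nat.lt_succ_of_le Nat.and_le_right

theorem sextOK_spec : ∀ {l : List ℕ}, (∀ m ∈ l, m < 2 ^ 24) → sextOK l = true →
    (∀ t ∈ fins l, t.card = 4) ∧ (fins l).card = l.length ∧
      ∀ t ∈ fins l, ∀ u ∈ fins l, t ≠ u → t ∪ u ∈ octads := by
  intro l
  induction l with
  | nil => intro _ _; simp [fins]
  | cons a l ih =>
    intro hlt h
    rw [sextOK_cons, Bool.and_eq_true, Bool.and_eq_true, Nat.beq_eq, List.all_eq_true] at h
    obtain ⟨⟨hp, hall⟩, hrest⟩ := h
    have ha := hlt a (List.mem_cons_self ..)
    obtain ⟨h1, h2, h3⟩ := ih (fun m hm => hlt m (List.mem_cons_of_mem _ hm)) hrest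
    have hfins : fins (a :: l) = insert (fin a) (fins l) := by simp [fins]
    have hu : ∀ u ∈ fins l, fin a ≠ u ∧ fin a ∪ u ∈ octads := by
      intro u hu
      obtain ⟨m, hm, rfl⟩ := mem_fins.mp hu
      have := hall m hm
      rw [Bool.and_eq_true, Nat.beq_eq] at this
      replace this : a &&& m = 0 ∧ isOctad (a ||| m) = true := this
      refine ⟨fun he => ?_, ?_⟩
      · have h0 : (fin a ∩ fin m).card = 0 := by
          rw [← fin_land, this.1, fin_zero, Finset.card_empty]
        rw [← he, Finset.inter_self, card_fin, hp] at h0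
        omega
      · rw [← fin_lor]
        exact (fin_mem_octads (isOctad_lt this.2)).mpr this.2
    rw [hfins]
    refine ⟨?_, ?_, ?_⟩
    · intro t ht
      rcases Finset.mem_insert.mp ht with rfl | ht
      · rw [card_fin, hp]
      · exact h1 t ht
    · rw [Finset.card_insert_of_notMem (fun hm => (hu _ hm).1 rfl), h2]; rfl
    · intro t ht u hu' hne
      rcases Finset.mem_insert.mp ht with rfl | ht <;>
        rcases Finset.mem_insert.mp hu' with rfl | hu'
      · exact absurd rfl hne
      · exact (hu u hu').2
      · rw [Finset.union_comm]; exact (hu t ht).2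
      · exact h3 t ht u hu' hne

theorem sextSet_mem {k : ℕ} (hk : k < 1771) : sextSet k ∈ sextets := by
  obtain ⟨h, -⟩ := sext_props hk
  obtain ⟨h1, h2, h3⟩ := sextOK_spec (fun m hm => sextList_lt hm) h
  exact ⟨h2, h1, h3⟩

/-- Two members of a sextet are disjoint. -/
theorem sextet_disjoint {S : Finset (Finset GolayPt)} (hS : S ∈ sextets) {t u : Finset GolayPt}
    (ht : t ∈ S) (hu : u ∈ S) (hne : t ≠ u) : Disjoint t u := by
  have h8 : (t ∪ u).card = 8 := (hS.2.2 t ht u hu hne).2
  rw [← Finset.card_union_eq_card_add_card, h8, hS.2.1 t ht, hS.2.1 u hu]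

/-- The members of a sextet cover all points. -/
theorem sextet_exists_mem {S : Finset (Finset GolayPt)} (hS : S ∈ sextets) (p : GolayPt) :
    ∃ t ∈ S, p ∈ t := by
  have hcard : (S.biUnion id).card = 24 := by
    rw [Finset.card_biUnion (t := id) (fun x hx y hy hxy => sextet_disjoint hS hx hy hxy)]
    simp only [id_eq]
    rw [Finset.sum_congr rfl (fun x hx => hS.2.1 x hx), Finset.sum_const, hS.1]
    rfl
  have huniv : S.biUnion id = Finset.univ := by
    apply Finset.eq_univ_of_card
    rw [hcard, Fintype.card_option, ZMod.card]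
  have := Finset.mem_univ p
  rw [← huniv, Finset.mem_biUnion] at this
  exact this

/-- A sextet is determined by one of its tetrads. -/
theorem sextet_ext {S S' : Finset (Finset GolayPt)} (hS : S ∈ sextets) (hS' : S' ∈ sextets)
    {t : Finset GolayPt} (ht : t ∈ S) (ht' : t ∈ S') : S = S' := by
  refine Finset.eq_of_subset_of_card_le (fun u hu => ?_) (by rw [hS.1, hS'.1])
  by_cases hut : u = t
  · exact hut ▸ ht'
  have hd := sextet_disjoint hS hu ht hut
  obtain ⟨x, hx⟩ := Finset.card_pos.mp (by rw [hS.2.1 u hu]; norm_num : 0 < u.card)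
  obtain ⟨v, hv, hxv⟩ := sextet_exists_mem hS' x
  have hvt : v ≠ t := fun e => Finset.disjoint_left.mp hd hx (e ▸ hxv)
  have hd' := sextet_disjoint hS' hv ht' hvt
  have heq : t ∪ u = t ∪ v := by
    refine octad_unique (hS.2.2 t ht u hu (Ne.symm hut)) (hS'.2.2 t ht' v hv hvt.symm) ?_
    have hsub : insert x t ⊆ (t ∪ u) ∩ (t ∪ v) := by
      intro p hp
      rcases Finset.mem_insert.mp hp with rfl | hp <;> simp [*]
    have := Finset.card_le_card hsub
    rw [Finset.card_insert_of_notMem (Finset.disjoint_left.mp hd hx), hS.2.1 t ht] at this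
    exact this
  have : u = v := by
    rw [← Finset.union_sdiff_cancel_left hd.symm, heq, Finset.union_sdiff_cancel_left hd'.symm]
  exact this ▸ hv

theorem sextHead_mem (k : ℕ) : fin (sextHead k) ∈ sextSet k := by
  rw [sextSet, mem_fins]
  exact ⟨_, by simp [sextList, sextHead], rfl⟩

theorem sextSet_injOn : Set.InjOn sextSet (Set.Iio 1771) := by
  intro k hk l hl he
  rw [Set.mem_Iio] at hk hl
  have mono : ∀ i j, i < j → j < 1771 → sextHead i < sextHead j := by
    intro i j hlt hj
    induction j with
    | zero => omega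
    | succ j ih =>
      obtain ⟨-, -, hs⟩ := sext_props hj
      rcases hs with hs | hs
      · omega
      · rw [Nat.add_sub_cancel] at hs
        rcases Nat.lt_or_ge i j with h | h
        · exact (ih h (by omega)).trans hs
        · obtain rfl : i = j := by omega
          exact hs
  have hp : pt 0 ∈ fin (sextHead k) ∧ pt 0 ∈ fin (sextHead l) :=
    ⟨(pt_mem_fin (by norm_num)).mpr (sext_props hk).2.1,
      (pt_mem_fin (by norm_num)).mpr (sext_props hl).2.1⟩
  have heq : fin (sextHead k) = fin (sextHead l) := by
    by_contra hne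
    exact Finset.disjoint_left.mp
      (sextet_disjoint (sextSet_mem hl) (he ▸ sextHead_mem k) (sextHead_mem l) hne) hp.1 hp.2
  have hlt : ∀ i, sextHead i < 2 ^ 24 := fun i => Nat.lt_succ_of_le Nat.and_le_right
  have := fin_inj (hlt k) (hlt l) heq
  rcases lt_trichotomy k l with h | h | h
  · exact absurd this (mono k l h hl).ne
  · exact h
  · exact absurd this.symm (mono l k h hk).ne

theorem sextets_eq : sextets = sextSet '' Set.Iio 1771 := by
  classical
  have hsub : sextSet '' Set.Iio 1771 ⊆ sextets := by
    rintro _ ⟨k, hk, rfl⟩; exact sextSet_mem hk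
  refine (Set.eq_of_subset_of_ncard_le hsub ?_ (Set.toFinite _)).symm
  rw [Set.InjOn.ncard_image sextSet_injOn, Set.ncard_Iio_nat]
  -- a sextet is determined by the three partners of point 0
  have key : ∀ S : sextets, ∃ t ∈ S.1, pt 0 ∈ t := fun S => sextet_exists_mem S.2 _
  choose f hf hf0 using key
  let F : sextets → {s : Finset GolayPt // s ∈ (Finset.univ.erase (pt 0)).powersetCard 3} :=
    fun S => ⟨(f S).erase (pt 0), by
      rw [Finset.mem_powersetCard]
      exact ⟨Finset.erase_subset_erase _ (Finset.subset_univ _), by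
        rw [Finset.card_erase_of_mem (hf0 S), S.2.2.1 _ (hf S)]⟩⟩
  have hinj : Function.Injective F := by
    intro S S' h
    have h1 : f S = f S' := by
      rw [← Finset.insert_erase (hf0 S), ← Finset.insert_erase (hf0 S'),
        show (f S).erase (pt 0) = (f S').erase (pt 0) from congrArg Subtype.val h]
    exact Subtype.ext (sextet_ext S.2 S'.2 (hf S) (h1 ▸ hf S'))
  calc sextets.ncard = Nat.card sextets := (Nat.card_coe_set_eq _).symm
    _ ≤ _ := Nat.card_le_card_of_injective F hinj
    _ = 1771 := by
      rw [Nat.card_eq_fintype_card, Fintype.card_coe, Finset.card_powersetCard,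
        Finset.card_erase_of_mem (Finset.mem_univ _), Finset.card_univ, Fintype.card_option,
        ZMod.card]
      rfl

theorem sextets_ncard : sextets.ncard = 1771 := by
  rw [sextets_eq, Set.InjOn.ncard_image sextSet_injOn, Set.ncard_Iio_nat]

end Cfsg.Agent.H12
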