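/-!
The 48 automorphisms of the code fixing the points 0..4, packed.
-/

set_option autoImplicit false

namespace Cfsg.Agent.H12

/-- The pointwise stabiliser of five points. -/
def fix5 : List Nat :=
  [0xbdab49ca307b9ac5a928398a418820,
    0x8bcd6925d5a5d674326d540a418820,
    0x7520f4cee6b450a69e4b654a418820,
    0x5c613a22d56a5ecba9d2394c418820,
    0x4cead751658da4a79d17640c418820,
    0xb34b1439309aee79328f554c418820,
    0x85e55352764bda72b1cb5450418820,
    0x7d6c971a11bcd6c6aa853c90418820,
    0x9a637a39f2ac0aa59ccd6590418820,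
    0x5d5d7994cf45a27a32505352418820,
    0xb5de894d6da9a0c8a8b43b92418820,
    0x321b52cacebae8a81e7163d2418820,
    0xb42928d4d7725aa41de564d6418820,
    0x4caee7c6d3818a76b2a85516418820,
    0x33a70abd349590c2aa2d3dd6418820,
    0xa19f3bc2ae8c9075b2c5525a418820,
    0xac52685a4f9d16a29ee8639a418820,
    0x94dd1b5e89354ac42a0b3bda418820,
    0x8adb2452ef816acb28d33a5c418820,
    0x2c9f0322295de6aa9e96635c418820,
    0xbc12ba18ad946c79b11553dc418820,
    0x859c5ac50da4eea31d72625e418820,
    0x451368ae6e2c0cc92ab73b5e418820,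
    0x995b45d609b2247bb226539e418820,
    0x43ab2b35e65ce878b2e95160418820,
    0x7acae6de759222a49ed461a0418820,
    0x9c8cbbd90573d2ca29b13d60418820,
    0x2cec6aaef26b927831f45222418820,
    0xbb5135bdd63160aa1ea964a2418820,
    0x71a4d7d4a89de8c4a9703da2418820,
    0x6c22e496b65d2ec7aa663a24418820,
    0xa3acb9a5a8854cab9caf6464418820,
    0xaad102ce91735e73313755a4418820,
    0x41af1916146bdcab1d3562e6418820,
    0x835662a5f78a2ccaaa4e3d26418820,
    0x7c68d4c90b342a7730b655e6418820,
    0x6da6f722572d6074b0d152e8418820,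
    0xabee5339abb4a2c829093ce8418820,
    0x9157641ab37b52a89dd065e8418820,
    0x6dcc97ae9044aca71e33616a418820,
    0x926088bda5bd267b316e51aa418820,
    0xa20b75c6464b5cc9a9f63c2a418820,
    0x5be54bb53129aaa99e0e622c418820,
    0x4950f6c0d2a2e6c72af53c6c418820,
    0x3522585d687a5c7ab1b354ac418820,
    0x2a695835d34464c32acf3aee418820,
    0x721696da34a94c77b21254ee418820,
    0x8d668b40ab4b9ea91da6652e418820]

end Cfsg.Agent.H12
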