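import Cfsg.Agent.H12.Code
import Cfsg.Agent.H12.Fix5Data
import Cfsg.Agent.H11.M24Transitive

/-!
All elements of `M24` with prescribed images of the points 0..4, and scans over them.
-/

set_option autoImplicit false

namespace Cfsg.Agent.H12

open scoped Pointwise

/-- The 24 point numbers. -/
def pts24 : List ℕ :=
  [0, 1, 2, 3, 4, 5, 6, 7, 8, 9, 10, 11, 12, 13, 14, 15, 16, 17, 18, 19, 20, 21, 22, 23]

theorem mem_pts24 {i : ℕ} : i ∈ pts24 ↔ i < 24 := by
  rw [show pts24 = List.range 24 by decide, List.mem_range]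

/-- First member of a list passing a test. -/
noncomputable def findPerm (l : List ℕ) (f : ℕ → Bool) : ℕ :=
  List.rec (motive := fun _ => ℕ) pone (fun a _ ih => Bool.rec ih a (f a)) l

theorem findPerm_mem (l : List ℕ) (f : ℕ → Bool) : findPerm l f = pone ∨ findPerm l f ∈ l := by
  induction l with
  | nil => exact Or.inl rfl
  | cons a l ih =>
    show (Bool.rec (findPerm l f) a (f a) : ℕ) = pone ∨ (Bool.rec (findPerm l f) a (f a) : ℕ) ∈ a :: l
    cases f a
    · exact ih.imp id (List.mem_cons_of_mem _)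
    · exact Or.inr (List.mem_cons_self ..)

/-- The transversal of level `j` of the chain of H11. -/
def chainLevel (j : ℕ) : List ℕ := (H11.m24Chain.getD j (0, [])).2

theorem chainLevel_spec {j P : ℕ} (h : P ∈ chainLevel j) :
    isPerm P = true ∧ permOf P ∈ M24 := by
  have hmem : ∀ bl ∈ H11.m24Chain, ∀ Q ∈ bl.2, Q ∈ H11.m24Perms := by
    have h : (H11.m24Chain.all fun bl => bl.2.all fun Q => H11.m24Perms.contains Q) = true := by
      decide +kernel
    simp only [List.all_eq_true, List.contains_iff_mem] at h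
    exact fun bl hbl Q hQ => h bl hbl Q hQ
  rcases Nat.lt_or_ge j H11.m24Chain.length with hj | hj
  · have hb : H11.m24Chain.getD j (0, []) ∈ H11.m24Chain := by
      rw [List.getD_eq_getElem?_getD, List.getElem?_eq_getElem hj]
      exact List.getElem_mem hj
    have := H11.m24Perms_mem P (hmem _ hb P h)
    exact ⟨this.1, H11.m24Gens_le this.2⟩
  · rw [chainLevel, List.getD_eq_getElem?_getD, List.getElem?_eq_none hj] at h
    simp at h

/-- A member of `M24` intended to send the points 0..4 to the given ones. -/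
noncomputable def mapFive (a0 a1 a2 a3 a4 : ℕ) : ℕ :=
  forceNat (findPerm (chainLevel 0) fun t => Nat.beq (app t 0) a0) fun p =>
  forceNat (findPerm (chainLevel 1) fun t => Nat.beq (app p (app t 1)) a1) fun t1 =>
  forceNat (pmul p t1) fun p =>
  forceNat (findPerm (chainLevel 2) fun t => Nat.beq (app p (app t 2)) a2) fun t2 =>
  forceNat (pmul p t2) fun p =>
  forceNat (findPerm (chainLevel 3) fun t => Nat.beq (app p (app t 3)) a3) fun t3 =>
  forceNat (pmul p t3) fun p =>
  forceNat (findPerm (chainLevel 4) fun t => Nat.beq (app p (app t 4)) a4) fun t4 =>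
  pmul p t4

theorem pone_mem_M24 : permOf pone ∈ M24 := by
  rw [pone_spec.2]
  exact M24.one_mem

theorem findPerm_level (j : ℕ) (f : ℕ → Bool) :
    isPerm (findPerm (chainLevel j) f) = true ∧ permOf (findPerm (chainLevel j) f) ∈ M24 := by
  rcases findPerm_mem (chainLevel j) f with h | h
  · rw [h]; exact ⟨pone_spec.1, pone_mem_M24⟩
  · exact chainLevel_spec h

theorem pmul_mem {P Q : ℕ} (hP : isPerm P = true ∧ permOf P ∈ M24)
    (hQ : isPerm Q = true ∧ permOf Q ∈ M24) :
    isPerm (pmul P Q) = true ∧ permOf (pmul P Q) ∈ M24 := by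
  obtain ⟨h1, h2⟩ := pmul_spec hP.1 hQ.1
  exact ⟨h1, by rw [h2]; exact M24.mul_mem hP.2 hQ.2⟩

theorem mapFive_spec (a0 a1 a2 a3 a4 : ℕ) :
    isPerm (mapFive a0 a1 a2 a3 a4) = true ∧ permOf (mapFive a0 a1 a2 a3 a4) ∈ M24 := by
  simp only [mapFive, forceNat_eq]
  exact pmul_mem (pmul_mem (pmul_mem (pmul_mem (findPerm_level _ _) (findPerm_level _ _))
    (findPerm_level _ _)) (findPerm_level _ _)) (findPerm_level _ _)

/-- Checks on the stabiliser list. -/
theorem fix5_check : (fix5.all fun h => fixesCode h && Nat.beq (pmul h pone) h &&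
    Nat.beq (app h 0) 0 && Nat.beq (app h 1) 1 && Nat.beq (app h 2) 2 && Nat.beq (app h 3) 3 &&
    Nat.beq (app h 4) 4) = true := by
  decide +kernel

theorem fix5_cover : (allBelow 5 24 fun i => allBelow 5 24 fun j =>
    !((decide (4 < i)) && (H11.octad0).testBit i && !(H11.octad0).testBit j) ||
      fix5.any fun h => Nat.beq (app h 7) i && Nat.beq (app h 5) j) = true := by
  decide +kernel

theorem fix5_nodup : fix5.Nodup := by decide +kernel

theorem fix5_spec {h : ℕ} (hh : h ∈ fix5) : isPerm h = true ∧ permOf h ∈ M24 ∧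
    pmul h pone = h ∧ ∀ i < 5, app h i = i := by
  have h1 := List.all_eq_true.mp fix5_check h hh
  simp only [Bool.and_eq_true, Nat.beq_eq] at h1
  obtain ⟨⟨⟨⟨⟨⟨ha, hb⟩, e0⟩, e1⟩, e2⟩, e3⟩, e4⟩ := h1
  refine ⟨?_, permOf_mem_M24 ha, hb, fun i hi => ?_⟩
  · rw [fixesCode, Bool.and_eq_true] at ha
    exact ha.1
  · rcases i with - | - | - | - | - | i
    exacts [e0, e1, e2, e3, e4, absurd hi (by omega)]

/-- The pointwise stabiliser of 0..4 is `fix5`. -/
theorem fix5_complete {g : Equiv.Perm GolayPt} (hg : g ∈ M24)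
    (hfix : ∀ i < 5, g (pt i) = pt i) : ∃ h ∈ fix5, g = permOf h := by
  have hO : g • fin H11.octad0 = fin H11.octad0 := by
    refine octad_unique ((smul_mem_octads hg).mpr H11.fin_octad0_mem) H11.fin_octad0_mem ?_
    have hsub : (Finset.range 5).image pt ⊆ g • fin H11.octad0 ∩ fin H11.octad0 := by
      intro q hq
      obtain ⟨i, hi, rfl⟩ := Finset.mem_image.mp hq
      rw [Finset.mem_range] at hi
      have hm : pt i ∈ fin H11.octad0 := by
        rw [pt_mem_fin (by omega)]
        revert i
        decide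
      exact Finset.mem_inter.mpr ⟨Finset.mem_smul_finset.mpr ⟨pt i, hm, hfix i hi⟩, hm⟩
    have := Finset.card_le_card hsub
    rw [Finset.card_image_of_injOn (fun a ha b hb h => pt_inj
      (by simp only [Finset.coe_range, Set.mem_Iio] at ha; omega)
      (by simp only [Finset.coe_range, Set.mem_Iio] at hb; omega) h), Finset.card_range] at this
    exact this
  have hiff : ∀ i < 24, (H11.octad0).testBit (idx (g (pt i))) = (H11.octad0).testBit i := by
    intro i hi
    rw [Bool.eq_iff_iff, ← mem_fin, ← pt_mem_fin hi]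
    conv_lhs => rw [← hO, ← Equiv.Perm.smul_def]
    exact Finset.smul_mem_smul_finset_iff g
  have hgt : 4 < idx (g (pt 7)) := by
    by_contra hle
    have h1 := hfix (idx (g (pt 7))) (by omega)
    rw [pt_idx] at h1
    have h2 := congrArg idx (g.injective h1)
    rw [idx_pt (by norm_num)] at h2
    omega
  have h := allBelow_spec (allBelow_spec fix5_cover (idx_lt (g (pt 7)))) (idx_lt (g (pt 5)))
  rw [hiff 7 (by norm_num), hiff 5 (by norm_num)] at h
  have hb : (H11.octad0).testBit 7 = true ∧ (H11.octad0).testBit 5 = false := by decide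
  simp only [hgt, decide_true, hb.1, hb.2, Bool.not_false, Bool.and_self, Bool.not_true,
    Bool.false_or, List.any_eq_true, Bool.and_eq_true, Nat.beq_eq] at h
  obtain ⟨h', hh', h7, h5⟩ := h
  obtain ⟨hperm, hmem, -, hfix'⟩ := fix5_spec hh'
  refine ⟨h', hh', ?_⟩
  have key : (permOf h')⁻¹ * g = 1 := by
    apply H11.eq_one_of_fix_base (M24.mul_mem (M24.inv_mem hmem) hg)
    intro x hx
    have hx' : x < 5 ∨ x = 7 ∨ x = 5 := by
      rw [show H11.m24Chain.map Prod.fst = [0, 1, 2, 3, 4, 7, 5] by decide +kernel] at hx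
      simp only [List.mem_cons, List.not_mem_nil, or_false] at hx
      omega
    rw [Equiv.Perm.mul_apply, Equiv.Perm.inv_eq_iff_eq, permOf_pt hperm (by omega)]
    rcases hx' with hx' | rfl | rfl
    · rw [hfix x hx', hfix' x hx']
    · rw [h7, pt_idx]
    · rw [h5, pt_idx]
  exact (inv_mul_eq_one.mp key).symm

/-- Images of a candidate, computed lazily. -/
noncomputable def compFun (P h i : ℕ) : ℕ := app P (app h i)

theorem compFun_eq {P h i : ℕ} (hi : i < 24) : compFun P h i = app (pmul P h) i :=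
  (app_pmul hi).symm

/-- Elements with given images of 0..4. -/
theorem five_split {g : Equiv.Perm GolayPt} (hg : g ∈ M24) {P : ℕ}
    (hP : isPerm P = true ∧ permOf P ∈ M24) (h : ∀ i < 5, idx (g (pt i)) = app P i) :
    ∃ x ∈ fix5, code g = pmul P x ∧ ∀ i < 24, compFun P x i = idx (g (pt i)) := by
  obtain ⟨x, hx, he⟩ := fix5_complete (M24.mul_mem (M24.inv_mem hP.2) hg) (g := (permOf P)⁻¹ * g)
    (fun i hi => by
      rw [Equiv.Perm.mul_apply, Equiv.Perm.inv_eq_iff_eq, permOf_pt hP.1 (by omega), ← h i hi,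
        pt_idx])
  obtain ⟨hxp, -, -, -⟩ := fix5_spec hx
  have hg' : g = permOf (pmul P x) := by
    rw [(pmul_spec hP.1 hxp).2, ← he, mul_inv_cancel_left]
  have hcode : code g = pmul P x := by
    refine congrArg pack (List.map_congr_left fun i hi => ?_)
    rw [List.mem_range] at hi
    rw [hg', permOf_pt (pmul_spec hP.1 hxp).1 hi, app_pmul hi,
      idx_pt (app_lt hP.1 (app_lt hxp hi))]
  refine ⟨x, hx, hcode, fun i hi => ?_⟩
  rw [compFun_eq hi, ← hcode, app_code g hi]

/-! ### Scans -/

/-- All candidates `P * h` passing a test, for `P` over a family of five-tuples of images. -/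
noncomputable def scanList (n : ℕ) (valid : ℕ → Bool) (tup : ℕ → ℕ → ℕ)
    (test : (ℕ → ℕ) → Bool) : List ℕ :=
  (List.range n).flatMap fun k => cond (valid k)
    (forceNat (mapFive (tup k 0) (tup k 1) (tup k 2) (tup k 3) (tup k 4)) fun P =>
      (fix5.filter fun h => test (compFun P h)).map (pmul P)) []

/-- The five-tuples are realised. -/
noncomputable def scanOK (d n : ℕ) (valid : ℕ → Bool) (tup : ℕ → ℕ → ℕ) : Bool :=
  allBelow d n fun k => !(valid k) ||
    forceNat (mapFive (tup k 0) (tup k 1) (tup k 2) (tup k 3) (tup k 4)) fun P =>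
      allList [0, 1, 2, 3, 4] fun i => Nat.beq (app P i) (tup k i)

section

variable {d n : ℕ} {valid : ℕ → Bool} {tup : ℕ → ℕ → ℕ} {test : (ℕ → ℕ) → Bool}

theorem scanOK_spec (h : scanOK d n valid tup = true) {k : ℕ} (hk : k < n)
    (hv : valid k = true) {i : ℕ} (hi : i < 5) :
    app (mapFive (tup k 0) (tup k 1) (tup k 2) (tup k 3) (tup k 4)) i = tup k i := by
  have h1 := allBelow_spec h hk
  rw [hv, Bool.not_true, Bool.false_or, forceNat_eq] at h1
  have := allList_spec h1 i (by simp only [List.mem_cons, List.not_mem_nil, or_false]; omega)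
  rwa [Nat.beq_eq] at this

theorem scanList_complete (h : scanOK d n valid tup = true) {g : Equiv.Perm GolayPt}
    (hg : g ∈ M24) {k : ℕ} (hk : k < n) (hv : valid k = true)
    (hi : ∀ i < 5, idx (g (pt i)) = tup k i)
    (ht : ∀ f : ℕ → ℕ, (∀ i < 24, f i = idx (g (pt i))) → test f = true) :
    code g ∈ scanList n valid tup test := by
  obtain ⟨x, hx, hc, hf⟩ := five_split hg (mapFive_spec (tup k 0) (tup k 1) (tup k 2) (tup k 3)
    (tup k 4)) (fun i h5 => by rw [hi i h5, scanOK_spec h hk hv h5])
  simp only [scanList, List.mem_flatMap, List.mem_range]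
  refine ⟨k, hk, ?_⟩
  rw [hv, cond_true, forceNat_eq, List.mem_map]
  exact ⟨x, List.mem_filter.mpr ⟨hx, ht _ hf⟩, hc.symm⟩

theorem scanList_sound (h : scanOK d n valid tup = true) {c : ℕ}
    (hc : c ∈ scanList n valid tup test) :
    (isPerm c = true ∧ permOf c ∈ M24) ∧ ∃ k < n, valid k = true ∧
      (∀ i < 5, app c i = tup k i) ∧ ∃ f : ℕ → ℕ, (∀ i < 24, f i = app c i) ∧ test f = true := by
  simp only [scanList, List.mem_flatMap, List.mem_range] at hc
  obtain ⟨k, hk, hc⟩ := hc
  cases hv : valid k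
  · rw [hv, cond_false] at hc; simp at hc
  · rw [hv, cond_true, forceNat_eq, List.mem_map] at hc
    obtain ⟨x, hx, rfl⟩ := hc
    rw [List.mem_filter] at hx
    obtain ⟨hxp, hxm, -, hx5⟩ := fix5_spec hx.1
    refine ⟨pmul_mem (mapFive_spec ..) ⟨hxp, hxm⟩, k, hk, hv, fun i h5 => ?_,
      ⟨_, fun i hi => compFun_eq hi, hx.2⟩⟩
    rw [app_pmul (by omega), hx5 i h5, scanOK_spec h hk hv h5]

/-- `pmul` depends on the images only. -/
theorem pmul_congr {P Q R : ℕ} (hR : isPerm R = true) (h : ∀ i < 24, app P i = app Q i) :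
    pmul P R = pmul Q R :=
  congrArg pack (List.map_congr_left fun _ hi => h _ (app_lt hR (List.mem_range.mp hi)))

/-- No repetitions, when the index is read off from the five images. -/
theorem scanList_nodup (h : scanOK d n valid tup = true) {key : (ℕ → ℕ) → ℕ}
    (hkey : ∀ k < n, valid k = true → ∀ f : ℕ → ℕ, (∀ i < 5, f i = tup k i) → key f = k) :
    (scanList n valid tup test).Nodup := by
  have hrow : ∀ k < n, ∀ c ∈ (cond (valid k)
      (forceNat (mapFive (tup k 0) (tup k 1) (tup k 2) (tup k 3) (tup k 4)) fun P =>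
        (fix5.filter fun h => test (compFun P h)).map (pmul P)) []),
      key (app c) = k := by
    intro k hk c hc
    cases hv : valid k
    · rw [hv, cond_false] at hc; simp at hc
    · rw [hv, cond_true, forceNat_eq, List.mem_map] at hc
      obtain ⟨x, hx, rfl⟩ := hc
      refine hkey k hk hv _ fun i h5 => ?_
      rw [app_pmul (by omega), (fix5_spec (List.mem_filter.mp hx).1).2.2.2 i h5,
        scanOK_spec h hk hv h5]
  rw [scanList, List.nodup_flatMap]
  refine ⟨fun k hk => ?_, ?_⟩
  · cases hv : valid k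
    · simp
    · rw [cond_true, forceNat_eq]
      refine (fix5_nodup.filter _).map_on fun x hx y hy hxy => ?_
      obtain ⟨hxp, -, hxc, -⟩ := fix5_spec (List.mem_filter.mp hx).1
      obtain ⟨hyp, -, hyc, -⟩ := fix5_spec (List.mem_filter.mp hy).1
      have hP := (mapFive_spec (tup k 0) (tup k 1) (tup k 2) (tup k 3) (tup k 4)).1
      have he := congrArg permOf hxy
      rw [(pmul_spec hP hxp).2, (pmul_spec hP hyp).2] at he
      have he' := (permOf_eq_iff hxp hyp).mp (mul_left_cancel he)
      rw [← hxc, ← hyc]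
      exact pmul_congr pone_spec.1 he'
  · refine (List.nodup_range).imp_of_mem ?_
    intro a b ha hb hne x hxa hxb
    rw [List.mem_range] at ha hb
    exact hne ((hrow a ha x hxa).symm.trans (hrow b hb x hxb))

end

end Cfsg.Agent.H12
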