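import Cfsg.Agent.H13.Engine

/-!
Certificates for the groups of order 6072 and 253 in `M24`.
-/

set_option autoImplicit false

namespace Cfsg.Agent.H12

/-- Generators of the group of order 253. -/
def frobGens : List H13.PL := [([1, 2, 3, 4, 5, 6, 7, 8, 9, 10, 11, 12, 13, 14, 15, 16, 17, 18, 19, 20, 21, 22, 0, 23],
   [22, 0, 1, 2, 3, 4, 5, 6, 7, 8, 9, 10, 11, 12, 13, 14, 15, 16, 17, 18, 19, 20, 21, 23]),
  ([0, 2, 4, 6, 8, 10, 12, 14, 16, 18, 20, 22, 1, 3, 5, 7, 9, 11, 13, 15, 17, 19, 21, 23],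
   [0, 12, 1, 13, 2, 14, 3, 15, 4, 16, 5, 17, 6, 18, 7, 19, 8, 20, 9, 21, 10, 22, 11, 23])]

/-- Its certificate. -/
def frobLevels : List H13.Level := [⟨0, [(0, 0), (1, 0), (2, 0), (2, 1), (3, 1), (4, 0), (4, 1), (5, 0), (5, 1), (6, 1), (7, 0), (7, 1), (8, 1), (9, 0), (10, 0), (10, 1), (11, 1), (12, 0), (13, 0), (15, 1), (16, 0), (17, 0)], [(0, 1, 0)]⟩,
  ⟨1, [(0, 0), (1, 0), (2, 0), (3, 0), (4, 0), (5, 0), (6, 0), (7, 0), (8, 0), (9, 0)], []⟩]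

/-- Generators of the group of order 6072. -/
def psl23Gens : List H13.PL := [([1, 2, 3, 4, 5, 6, 7, 8, 9, 10, 11, 12, 13, 14, 15, 16, 17, 18, 19, 20, 21, 22, 0, 23],
   [22, 0, 1, 2, 3, 4, 5, 6, 7, 8, 9, 10, 11, 12, 13, 14, 15, 16, 17, 18, 19, 20, 21, 23]),
  ([0, 2, 4, 6, 8, 10, 12, 14, 16, 18, 20, 22, 1, 3, 5, 7, 9, 11, 13, 15, 17, 19, 21, 23],
   [0, 12, 1, 13, 2, 14, 3, 15, 4, 16, 5, 17, 6, 18, 7, 19, 8, 20, 9, 21, 10, 22, 11, 23]),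
  ([23, 22, 11, 15, 17, 9, 19, 13, 20, 5, 16, 2, 21, 7, 18, 3, 10, 4, 14, 6, 8, 12, 1, 0],
   [23, 22, 11, 15, 17, 9, 19, 13, 20, 5, 16, 2, 21, 7, 18, 3, 10, 4, 14, 6, 8, 12, 1, 0])]

/-- Its certificate. -/
def psl23Levels : List H13.Level := [⟨23, [(0, 2), (1, 0), (2, 0), (2, 2), (3, 0), (3, 1), (3, 2), (4, 1), (5, 1), (5, 2), (6, 0), (6, 1), (6, 2), (7, 0), (8, 1), (9, 0), (10, 0), (11, 1), (11, 2), (12, 2), (13, 0), (14, 0), (16, 1)], [(0, 0, 0), (0, 1, 0)]⟩,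
  ⟨0, [(0, 0), (1, 0), (2, 0), (2, 1), (3, 1), (4, 0), (4, 1), (5, 0), (5, 1), (6, 1), (7, 0), (7, 1), (8, 1), (9, 0), (10, 0), (10, 1), (11, 1), (12, 0), (13, 0), (15, 1), (16, 0), (17, 0)], [(0, 1, 0)]⟩,
  ⟨1, [(0, 0), (1, 0), (2, 0), (3, 0), (4, 0), (5, 0), (6, 0), (7, 0), (8, 0), (9, 0)], []⟩]

/-- Discrete logarithms to base two; 16 marks the non-squares. -/
def logTwo : List Nat := [0, 0, 1, 8, 2, 16, 9, 25, 3, 5, 17, 20, 10, 7, 26, 24, 4, 19, 6, 23, 18, 22, 21]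

/-- An element of order five normalising the group of order eleven. -/
def normFive : Nat := 0xbae75734e2a3d8354606b24b222020

end Cfsg.Agent.H12
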