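/-!
Data for the subgroups of order 7.
-/

set_option autoImplicit false

namespace Cfsg.Agent.H12

/-- The powers 1..6 of a representative of order 7. -/
def rep7Pows : List Nat :=
  [0xb21e68cab44baec281705366720c41,
    0x4412dac9e65bacc984b405e2a39062,
    0x851777c92d2b90c88a660daa051c83,
    0xa18b64c9779ba0ca8e2d121e1028e4,
    0x336685c8b68ba8c792b71c12208147,
    0x6de302ca68ab8cc49df6251631040a]

/-- Candidate, class and five images of a conjugator. -/
def conj7Data : List (Nat × Nat × Nat) :=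
  [(0xb21e68cab44baec281705366720c41, 0, 0x418820),
    (0xbd2ae5cde829acc4822d5424720c41, 0, 0x418820),
    (0x339058aef0a3da0b2a696564720c41, 1, 0x321d80),
    (0x9c9346c2ab2da207a8c865dc720c41, 1, 0x321d80),
    (0xabe30452655b92092aed61ac720c41, 1, 0x321d80),
    (0x81968a962e9d1ac901f655d2720c41, 0, 0x418820),
    (0x45930944b77b68ca82665396720c41, 0, 0x418820),
    (0x6c2ef9c90eb14c0a2a356256720c41, 1, 0x321d80),
    (0xbd9ab494d48490072ab164de720c41, 1, 0x321d80),
    (0x342762d64d5ddcc88128551e720c41, 0, 0x418820),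
    (0x8aeb6339327d2602a9b76220720c41, 1, 0x321d80),
    (0xa5cad9ad36ac10c7824e51a2720c41, 0, 0x418820),
    (0x4966ebda2f942a05a9066368720c41, 1, 0x321d80),
    (0x736574be708d8cc580b4522a720c41, 0, 0x418820),
    (0x6ba347a5669220c982b7558a720c41, 0, 0x418820),
    (0x450d2abdb672ee082933644a720c41, 1, 0x321d80),
    (0xb3d345c1cd44e2c91ee501aaa20c41, 1, 0x3228e0),
    (0x7c6ae2ceed5cac0832883a4ca20c41, 0, 0x418820),
    (0x6da093516fba220ab2723b8aa20c41, 0, 0x418820),
    (0x425f7999aeb2e4c89e95040aa20c41, 1, 0x3228e0),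
    (0x7d90582e51499ac71eb404eea20c41, 1, 0x3228e0),
    (0xbc2d3439eb69aa08b1253d24a20c41, 0, 0x418820),
    (0xb36f2a1ab1839e05b0a93a26a20c41, 0, 0x418820),
    (0x2d2ef74973ab4cc81d360450a20c41, 1, 0x3228e0),
    (0x5d634925b779600b31c63cd0a20c41, 0, 0x418820),
    (0xaade64cad08cee06b114395ca20c41, 0, 0x418820),
    (0x8bd6899616aa5a0bb0ce3ca8a20c41, 0, 0x418820),
    (0x4a2d534e327c1cc69cb702e8a20c41, 1, 0x3228e0),
    (0x85da572235b51607b2533992a20c41, 0, 0x418820),
    (0xa16b693a06bc66c59d0f0352a20c41, 1, 0x3228e0),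
    (0xbd4a88b4d0a496c99ec9039ea20c41, 1, 0x3228e0),
    (0xade896c66b2ba0c31de804aca20c41, 1, 0x3228e0),
    (0x815d3356927a6ca581173b62c20c41, 1, 0x323140),
    (0x5d2469dcaeb21ea801353c5ac20c41, 1, 0x323140),
    (0x2da34ba51232e07aaa6f039ac20c41, 0, 0x418820),
    (0x942ae6ccc543ec78a92b052ec20c41, 0, 0x418820),
    (0x9b5e6849c9a56e75a8b1022cc20c41, 0, 0x418820),
    (0xa99342c2686ba2ab824b3becc20c41, 1, 0x323140),
    (0x8490b9b636ad0a732aee03d2c20c41, 0, 0x418820),
    (0xbcd05a2cc98c9aaa81d03d9ec20c41, 1, 0x323140),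
    (0xba5d52d9ed59a67a2a080464c20c41, 0, 0x418820),
    (0x4b6b67ba373426a401723968c20c41, 1, 0x323140),
    (0x9596d8a1f0a5caa702a93cccc20c41, 1, 0x323140),
    (0xb14cf4deb08ba47429b402e6c20c41, 0, 0x418820),
    (0x73e116a6cb2d68a902e839a6c20c41, 1, 0x323140),
    (0x446efb49b59acca4820e3d0ac20c41, 1, 0x323140),
    (0x6ce91941777a12772ac6054ac20c41, 0, 0x418820),
    (0x4dd68b1693745a77aa5501a0c20c41, 0, 0x418820)]

/-- Two non-commuting centralising elements. -/
def cent7Witness : Nat × Nat :=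
  (0xabee5339abb4a2c829093ce8418820, 0x33548230f603a9212c374c06fac665)

end Cfsg.Agent.H12
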